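import Mathlib.Data.Nat.Factorial.Basic
import Mathlib.Data.Rat.Defs
import Mathlib.RingTheory.Coprime.Lemmas
import Mathlib.NumberTheory.Divisors
import Mathlib.Algebra.Order.Field.Basic
import Mathlib.Tactic.Linarith
import Mathlib.Tactic.LinearCombination
import Mathlib.Tactic.IntervalCases
import Mathlib.Tactic.FieldSimp
import Mathlib.Tactic.Positivity
import Mathlib.Tactic.Ring
import Mathlib.Tactic.NormNum
import Mathlib.Tactic.NormNum.Prime

/-!
The arithmetic of the degree equations for a simple group with an element of order four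
that generates its own centraliser.
-/

set_option autoImplicit false

namespace H6.SmallCent

/-- The divisors of `467775 = 3 ^ 5 * 5 ^ 2 * 7 * 11`. -/
def oddDivs : List ℕ :=
  (List.range 6).flatMap fun i => (List.range 3).flatMap fun j =>
    [3 ^ i * 5 ^ j, 3 ^ i * 5 ^ j * 7, 3 ^ i * 5 ^ j * 11, 3 ^ i * 5 ^ j * 7 * 11]

theorem mem_oddDivs {n : ℕ} (h : n ∣ 467775) : n ∈ oddDivs := by
  rw [show 467775 = 3 ^ 5 * (5 ^ 2 * (7 * 11)) by norm_num] at h
  obtain ⟨a, b, ha, hb, rfl⟩ := Nat.dvd_mul.1 h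
  obtain ⟨x, y, hx, hy, rfl⟩ := Nat.dvd_mul.1 hb
  obtain ⟨u, v, hu, hv, rfl⟩ := Nat.dvd_mul.1 hy
  obtain ⟨i, hi, rfl⟩ := (Nat.dvd_prime_pow Nat.prime_three).1 ha
  obtain ⟨j, hj, rfl⟩ := (Nat.dvd_prime_pow Nat.prime_five).1 hx
  simp only [oddDivs, List.mem_flatMap, List.mem_range]
  refine ⟨i, by omega, j, by omega, ?_⟩
  rcases (Nat.dvd_prime (by norm_num : Nat.Prime 7)).1 hu with rfl | rfl <;>
    rcases (Nat.dvd_prime (by norm_num : Nat.Prime 11)).1 hv with rfl | rfl <;>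
      simp [mul_assoc]

/-- The possible values of `A` in the general case. -/
theorem A_values : ∀ k ∈ oddDivs, ∀ A ∈ [(k : ℤ), -(k : ℤ)], A % 4 = 1 → 9 ≤ |A| →
    (0 < A → 17 ≤ A) → ((1 + A) / 2).natAbs ∣ 467775 → A ∈ [(-55 : ℤ), -15, -11, 21] := by
  decide +kernel

/-- No solution of the general case. -/
def badPair (A : ℤ) (p m : ℕ) : Bool :=
  let N : ℕ := 64 * p * m * (p + m) ^ 2 * (A * (A + 1)).toNat
  let X : ℕ := ((A - 1) ^ 2).toNat
  let g : ℕ := N / X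
  decide (3 ≤ p ∧ p ≤ m ∧ p * m ∣ 467775 ∧ g * X = N ∧ g % 16 = 8) &&
    decide (g ∣ (min 12 (g / (24 * p * m ^ 3))).factorial)

theorem no_badPair : ∀ A ∈ [(-55 : ℤ), -15, -11, 21], ∀ p ∈ oddDivs, ∀ m ∈ oddDivs,
    badPair A p m = false := by
  decide +kernel

/-- The degree equations. `g` is the group order, `p`, `m` the orders of the two parts of the
complement of the involution centraliser, `A`, `c`, `d` the signed degrees. -/
structure Eqns (g p m : ℕ) (A c d : ℤ) : Prop where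
  g_pos : 0 < g
  p_odd : Odd p
  m_odd : Odd m
  hg : g % 16 = 8
  A_mod : A % 4 = 1
  A_big : 9 ≤ |A|
  c_big : 9 ≤ |c|
  d_big : 9 ≤ |d|
  hsum : c + d = 1 + A
  first : (g : ℚ) * (2 + 2 / A - 8 / (1 + A)) = 128 * p * m * (p + m) ^ 2
  second : (g : ℚ) * (1 + 1 / A - 1 / c - 1 / d) = 256 * p ^ 2 * m ^ 2

namespace Eqns

variable {g p m : ℕ} {A c d : ℤ} (h : Eqns g p m A c d)
include h

theorem A_ne : A ≠ 0 ∧ A + 1 ≠ 0 ∧ A - 1 ≠ 0 := by
  have := h.A_big
  rcases abs_cases A with ⟨e, _⟩ | ⟨e, _⟩ <;> refine ⟨?_, ?_, ?_⟩ <;> omega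

theorem cd_ne : c ≠ 0 ∧ d ≠ 0 := by
  have := h.c_big
  have := h.d_big
  rcases abs_cases c with ⟨e, _⟩ | ⟨e, _⟩ <;> rcases abs_cases d with ⟨f, _⟩ | ⟨f, _⟩ <;>
    refine ⟨?_, ?_⟩ <;> omega

theorem order_eq :
    (g : ℤ) * (A - 1) ^ 2 = 64 * p * m * (p + m) ^ 2 * (A * (A + 1)) := by
  obtain ⟨hA0, hA1, -⟩ := h.A_ne
  have e : (A : ℚ) ≠ 0 := by exact_mod_cast hA0
  have e' : (1 + A : ℚ) ≠ 0 := by
    have : ((1 + A : ℤ) : ℚ) ≠ 0 := by exact_mod_cast (show (1 + A : ℤ) ≠ 0 by omega)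
    simpa using this
  have h1 := h.first
  field_simp at h1
  have h2 : ((g : ℤ) : ℚ) * ((A : ℚ) - 1) ^ 2 =
      64 * ((p : ℤ) : ℚ) * ((m : ℤ) : ℚ) * (((p : ℤ) : ℚ) + ((m : ℤ) : ℚ)) ^ 2 *
        ((A : ℚ) * ((A : ℚ) + 1)) := by
    push_cast
    linear_combination (1 / 2 : ℚ) * h1
  exact_mod_cast h2

theorem second_eq :
    (g : ℤ) * ((A + 1) * (c * d - A)) = 256 * p ^ 2 * m ^ 2 * A * (c * d) := by
  obtain ⟨hA0, -, -⟩ := h.A_ne
  obtain ⟨hc, hd⟩ := h.cd_ne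
  have e : (A : ℚ) ≠ 0 := by exact_mod_cast hA0
  have ec : (c : ℚ) ≠ 0 := by exact_mod_cast hc
  have ed : (d : ℚ) ≠ 0 := by exact_mod_cast hd
  have hs : (c : ℚ) + d = 1 + A := by exact_mod_cast h.hsum
  have h1 := h.second
  field_simp at h1
  have h2 : ((g : ℤ) : ℚ) * (((A : ℚ) + 1) * ((c : ℚ) * d - A)) =
      256 * ((p : ℤ) : ℚ) ^ 2 * ((m : ℤ) : ℚ) ^ 2 * (A : ℚ) * ((c : ℚ) * d) := by
    push_cast
    linear_combination h1 + ((g : ℚ) * A) * hs
  exact_mod_cast h2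

theorem product_eq :
    c * d * (((p : ℤ) - m) ^ 2 * (1 + A) ^ 2 + 16 * A * p * m) =
      A * (((p : ℤ) + m) ^ 2 * (1 + A) ^ 2) := by
  have h1 := h.order_eq
  have h2 := h.second_eq
  have hp := h.p_odd.pos
  have hm := h.m_odd.pos
  have h3 : (64 * p * m * A : ℤ) * ((p + m) ^ 2 * (A + 1) ^ 2 * (c * d - A)) =
      (64 * p * m * A : ℤ) * (4 * p * m * (c * d) * (A - 1) ^ 2) := by
    linear_combination (A - 1) ^ 2 * h2 - (A + 1) * (c * d - A) * h1
  have hne : (64 * p * m * A : ℤ) ≠ 0 := by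
    have := h.A_ne.1
    positivity
  have h4 := mul_left_cancel₀ hne h3
  linear_combination h4

/-- A positive `A` is at least `17`. -/
theorem seventeen_le (hA : 0 < A) : 17 ≤ A := by
  have h1 := h.product_eq
  have hp := h.p_odd.pos
  have hm := h.m_odd.pos
  have hD : (0 : ℤ) < ((p : ℤ) - m) ^ 2 * (1 + A) ^ 2 + 16 * A * p * m := by positivity
  have hR : (0 : ℤ) < A * (((p : ℤ) + m) ^ 2 * (1 + A) ^ 2) := by positivity
  have hcd : 0 < c * d := by
    rcases lt_or_ge 0 (c * d) with hh | hh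
    · exact hh
    · have := mul_nonpos_of_nonpos_of_nonneg hh hD.le
      linarith
  have hs := h.hsum
  have hc := h.c_big
  have hd := h.d_big
  rcases mul_pos_iff.1 hcd with ⟨c0, d0⟩ | ⟨c0, d0⟩
  · rw [abs_of_pos c0] at hc
    rw [abs_of_pos d0] at hd
    omega
  · omega

theorem dvd_A : A ∣ (g : ℤ) := by
  have h1 : A ∣ (g : ℤ) * (A - 1) ^ 2 := ⟨64 * p * m * (p + m) ^ 2 * (A + 1), by
    linear_combination h.order_eq⟩
  have hc : IsCoprime A ((A - 1) ^ 2) := IsCoprime.pow_right ⟨1, -1, by ring⟩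
  exact hc.dvd_of_dvd_mul_right h1

theorem half_dvd {k : ℤ} (hk : 1 + A = 2 * k) : k ∣ (g : ℤ) := by
  have h1 : k ∣ (g : ℤ) * (A - 1) ^ 2 := ⟨128 * p * m * (p + m) ^ 2 * A, by
    linear_combination h.order_eq + 64 * (p : ℤ) * m * (p + m) ^ 2 * A * hk⟩
  have hkodd : Odd k := by
    have := h.A_mod
    rw [Int.odd_iff]
    omega
  obtain ⟨j, hj⟩ := hkodd
  have hc : IsCoprime k (A - 1) := by
    refine ⟨1 - 2 * j, j, ?_⟩
    have hA : A = 4 * j + 1 := by omega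
    rw [hA, hj]
    ring
  exact hc.pow_right.dvd_of_dvd_mul_right h1

/-- With one part trivial the other part has order `3` and `A = -15`. -/
theorem p_one (hp : p = 1) (hm : 1 < m) : m = 3 ∧ g = 2520 := by
  subst hp
  have hm1 := h.m_odd
  obtain ⟨hA0, hA1, -⟩ := h.A_ne
  obtain ⟨hc, hd⟩ := h.cd_ne
  -- a bound for `m`
  have hb : m ≤ 6 := by
    have h1 := h.first
    have h2 := h.second
    set u : ℚ := 1 / (A : ℚ) with hu
    set v : ℚ := 1 / (c : ℚ) with hv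
    set w : ℚ := 1 / (d : ℚ) with hw
    set e : ℚ := 8 / (1 + (A : ℚ)) with he
    have hbd : ∀ x : ℤ, 9 ≤ |x| → |(1 : ℚ) / x| ≤ 1 / 9 := fun x hx => by
      rw [abs_div, abs_one]
      refine one_div_le_one_div_of_le (by norm_num) ?_
      exact_mod_cast hx
    have hu' := abs_le.1 (hbd A h.A_big)
    have hv' := abs_le.1 (hbd c h.c_big)
    have hw' := abs_le.1 (hbd d h.d_big)
    have he' : |e| ≤ 1 := by
      rw [he, abs_div, abs_of_pos (by norm_num : (0 : ℚ) < 8)]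
      have h8 : (8 : ℤ) ≤ |1 + A| := by
        have := h.A_big
        rcases abs_cases A with ⟨e, _⟩ | ⟨e, _⟩ <;> rcases abs_cases (1 + A) with ⟨f, _⟩ | ⟨f, _⟩ <;> omega
      have h8' : (8 : ℚ) ≤ |1 + (A : ℚ)| := by exact_mod_cast h8
      exact div_le_one_of_le₀ h8' (abs_nonneg _)
    have he'' := abs_le.1 he'
    push_cast at h1 h2
    rw [show (2 : ℚ) / A = 2 * u by rw [hu]; ring] at h1
    have hg : (0 : ℚ) < g := by exact_mod_cast h.g_pos
    have hm0 : (0 : ℚ) < m := by exact_mod_cast hm1.pos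
    -- ratio of the two sums
    have hr : ((g : ℚ) * (1 + u - v - w)) * (1 + (m : ℚ) ^ 2) =
        ((g : ℚ) * (2 + 2 * u - e) - (g : ℚ) * (1 + u - v - w)) * (2 * m) := by
      rw [h1, h2]; ring
    have hr' : (1 + u - v - w) * (1 + (m : ℚ) ^ 2) = (1 + u + v + w - e) * (2 * m) :=
      mul_left_cancel₀ hg.ne' (by linear_combination hr)
    have h3 : (2 / 3 : ℚ) * (1 + (m : ℚ) ^ 2) ≤ 7 / 3 * (2 * m) := by
      have l1 : (2 / 3 : ℚ) * (1 + (m : ℚ) ^ 2) ≤ (1 + u - v - w) * (1 + (m : ℚ) ^ 2) :=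
        mul_le_mul_of_nonneg_right (by linarith) (by positivity)
      have l2 : (1 + u + v + w - e) * (2 * m) ≤ 7 / 3 * (2 * (m : ℚ)) :=
        mul_le_mul_of_nonneg_right (by linarith) (by positivity)
      linarith
    by_contra hlt
    push Not at hlt
    have h7 : (7 : ℚ) ≤ m := by exact_mod_cast hlt
    nlinarith
  -- the possible orders
  have ho := h.order_eq
  have hp' := h.product_eq
  push_cast at ho hp'
  have hm' : m = 3 ∨ m = 5 := by
    obtain ⟨j, rfl⟩ := hm1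
    omega
  have hN : (A - 1) ^ 2 ∣ 64 * (m : ℤ) * (1 + m) ^ 2 * (A * (A + 1)) := ⟨g, by linear_combination -ho⟩
  have hX : (A - 1) ^ 2 ∣ 4 * (64 * (m : ℤ) * (1 + m) ^ 2) := by
    set N : ℤ := 64 * (m : ℤ) * (1 + m) ^ 2 with hNdef
    have h1 : (A - 1) ^ 2 ∣ N * (3 * A - 1) := by
      have h0 : (A - 1) ^ 2 ∣ N * (A - 1) ^ 2 := dvd_mul_left _ _
      have := dvd_sub hN h0
      rwa [show N * (A * (A + 1)) - N * (A - 1) ^ 2 = N * (3 * A - 1) by ring] at this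
    have h2 := dvd_sub ((dvd_mul_left ((A - 1) ^ 2) (9 * N))) (h1.mul_right (3 * A - 5))
    rwa [show 9 * N * (A - 1) ^ 2 - N * (3 * A - 1) * (3 * A - 5) = 4 * N by ring] at h2
  have hD : (((1 : ℤ) - m) ^ 2 * (1 + A) ^ 2 + 16 * A * 1 * m) ∣
      A * (((1 : ℤ) + m) ^ 2 * (1 + A) ^ 2) := ⟨c * d, by linear_combination -hp'⟩
  have hg16 : 16 * (A - 1) ^ 2 ∣ 64 * (m : ℤ) * (1 + m) ^ 2 * (A * (A + 1)) - 8 * (A - 1) ^ 2 := by
    obtain ⟨q, hq⟩ : ∃ q : ℤ, (g : ℤ) = 16 * q + 8 := ⟨(g : ℤ) / 16, by have := h.hg; omega⟩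
    exact ⟨q, by linear_combination -ho + (A - 1) ^ 2 * hq⟩
  have hle : (A - 1) ^ 2 ≤ 4 * (64 * (m : ℤ) * (1 + m) ^ 2) := Int.le_of_dvd (by positivity) hX
  have hAm := h.A_mod
  have hA9 := h.A_big
  rcases hm' with rfl | rfl <;> norm_num at hle hX hD hg16 ho
  · obtain rfl : A = -15 := by
      have h1 : -115 ≤ A ∧ A ≤ 115 := ⟨by nlinarith, by nlinarith⟩
      obtain ⟨l1, l2⟩ := h1
      interval_cases A <;> first | omega | (norm_num at hA9; done) | (norm_num at hg16; done) | (norm_num at hD; done) | (norm_num at hX; done)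
    exact ⟨rfl, by norm_num at ho; omega⟩
  · exfalso
    have h1 : -216 ≤ A ∧ A ≤ 216 := ⟨by nlinarith, by nlinarith⟩
    obtain ⟨l1, l2⟩ := h1
    interval_cases A <;> first | omega | (norm_num at hA9; done) | (norm_num at hg16; done) | (norm_num at hD; done) | (norm_num at hX; done)

/-- Both parts cannot be nontrivial. -/
theorem general (hp : 3 ≤ p) (hpm : p ≤ m) (hn_pm : p * m ∣ g) {n : ℕ} (hn : g ∣ n.factorial)
    (hle : 24 * p * m ^ 3 * n ≤ g) : False := by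
  obtain ⟨hA0, hA1, hA2⟩ := h.A_ne
  have ho := h.order_eq
  have hAA : 0 ≤ A * (A + 1) := by
    rcases lt_or_ge A 0 with hh | hh
    · nlinarith
    · positivity
  -- the bound on `n`
  have hn12 : n ≤ 12 := by
    have hle' : (24 : ℤ) * p * m ^ 3 * n ≤ g := by exact_mod_cast hle
    have hp' : (3 : ℤ) ≤ p := by exact_mod_cast hp
    have hpm' : (p : ℤ) ≤ m := by exact_mod_cast hpm
    have h1 : (24 : ℤ) * p * m ^ 3 * n * (A - 1) ^ 2 ≤ 64 * p * m * (p + m) ^ 2 * (A * (A + 1)) := by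
      rw [← ho]
      exact mul_le_mul_of_nonneg_right hle' (sq_nonneg _)
    have h2 : 64 * (p : ℤ) * m * (p + m) ^ 2 * (A * (A + 1)) ≤ 64 * p * m * (4 * m ^ 2) * (A * (A + 1)) := by
      refine mul_le_mul_of_nonneg_right (mul_le_mul_of_nonneg_left ?_ (by positivity)) hAA
      nlinarith
    have h3 : (8 * p * m ^ 3 : ℤ) * (3 * n * (A - 1) ^ 2) ≤ (8 * p * m ^ 3 : ℤ) * (32 * (A * (A + 1))) := by
      linarith
    have hm0 : (0 : ℤ) < m := by linarith
    have h4 : 3 * (n : ℤ) * (A - 1) ^ 2 ≤ 32 * (A * (A + 1)) :=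
      le_of_mul_le_mul_left h3 (mul_pos (by linarith) (pow_pos hm0 3))
    by_contra hlt
    push Not at hlt
    have hlt' : (13 : ℤ) ≤ n := by exact_mod_cast hlt
    have h5 : 39 * (A - 1) ^ 2 ≤ 32 * (A * (A + 1)) := by nlinarith
    rcases lt_or_ge A 0 with hh | hh
    · nlinarith
    · have := h.seventeen_le (by omega)
      nlinarith
  -- the divisors
  have h12 : g ∣ 2 ^ 10 * 467775 := by
    have e : (12 : ℕ).factorial = 2 ^ 10 * 467775 := by rw [show (12 : ℕ).factorial = 479001600 from rfl]; norm_num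
    exact e ▸ hn.trans (Nat.factorial_dvd_factorial hn12)
  have hodd : ∀ k : ℕ, Odd k → k ∣ g → k ∣ 467775 := fun k hk hkg =>
    (Nat.Coprime.pow_right 10 (Nat.coprime_two_right.2 hk)).dvd_of_dvd_mul_left (hkg.trans h12)
  have hAmod := h.A_mod
  have hAk : A.natAbs ∣ 467775 := hodd _ (by rw [Int.natAbs_odd, Int.odd_iff]; omega)
    (Int.natCast_dvd_natCast.1 (Int.natAbs_dvd.2 h.dvd_A))
  obtain ⟨k, hk⟩ : ∃ k, 1 + A = 2 * k := ⟨(1 + A) / 2, by omega⟩
  have hkd : ((1 + A) / 2).natAbs ∣ 467775 := hodd _ (by rw [Int.natAbs_odd, Int.odd_iff]; omega)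
    (Int.natCast_dvd_natCast.1 (Int.natAbs_dvd.2 (h.half_dvd (by omega))))
  have hmem : A ∈ [(-55 : ℤ), -15, -11, 21] :=
    A_values _ (mem_oddDivs hAk) A (by simp only [List.mem_cons, List.not_mem_nil, or_false]; exact Int.natAbs_eq A)
      hAmod h.A_big h.seventeen_le hkd
  set N : ℕ := 64 * p * m * (p + m) ^ 2 * (A * (A + 1)).toNat with hN
  set X : ℕ := ((A - 1) ^ 2).toNat with hX
  have hgX : g * X = N := by
    have e1 : ((A * (A + 1)).toNat : ℤ) = A * (A + 1) := Int.toNat_of_nonneg hAA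
    have e2 : (((A - 1) ^ 2).toNat : ℤ) = (A - 1) ^ 2 := Int.toNat_of_nonneg (sq_nonneg _)
    have : ((g * X : ℕ) : ℤ) = (N : ℤ) := by rw [hN, hX]; push_cast; rw [e1, e2]; exact ho
    exact_mod_cast this
  have hpmg : p * m ∣ g := hn_pm
  have hX0 : 0 < X := by
    rw [hX]
    have : 0 < (A - 1) ^ 2 := by positivity
    omega
  have hgdiv : N / X = g := by rw [← hgX, Nat.mul_div_cancel _ hX0]
  have hpodd := h.p_odd
  have hbad := no_badPair A hmem p (mem_oddDivs ((dvd_mul_right p m).trans (hodd _ (hpodd.mul h.m_odd) hpmg)))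
    m (mem_oddDivs ((dvd_mul_left m p).trans (hodd _ (hpodd.mul h.m_odd) hpmg)))
  have hnle : n ≤ min 12 (g / (24 * p * m ^ 3)) := by
    refine le_min hn12 ((Nat.le_div_iff_mul_le (by have := h.m_odd.pos; positivity)).2 ?_)
    rw [mul_comm]; exact hle
  simp only [badPair, ← hN, ← hX, hgdiv] at hbad
  rw [Bool.and_eq_false_iff] at hbad
  rcases hbad with hbad | hbad <;> rw [decide_eq_false_iff_not] at hbad
  · exact hbad ⟨hp, hpm, hodd _ (hpodd.mul h.m_odd) hpmg, hgX, h.hg⟩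
  · exact hbad (hn.trans (Nat.factorial_dvd_factorial hnle))

end Eqns

end H6.SmallCent
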