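import Cfsg.Agent.H12.Transport
import Cfsg.Agent.H12.Orth
import Cfsg.Agent.H65.DihedralBlock

/-!
A lower bound for the degree of a character which is constant on a four-group and on its cosets
by a commuting element of odd order.
-/

set_option autoImplicit false
set_option linter.style.haveILetI false

namespace H6.SmallCent

open Subgroup Cfsg
open scoped Classical ComplexConjugate

universe u

variable {G : Type u} [Group G] [Fintype G]

theorem sum_zpowers_eq {H : Type*} [Group H] [Finite H] {g : H} [Fintype (zpowers g)]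
    (f : zpowers g → ℂ) :
    ∑ x : zpowers g, f x = ∑ l ∈ Finset.range (orderOf g), f ⟨g ^ l, npow_mem_zpowers g l⟩ := by
  rw [← Fin.sum_univ_eq_sum_range (fun l => f ⟨g ^ l, npow_mem_zpowers g l⟩)]
  exact (Fintype.sum_equiv (finEquivZPowers (isOfFinOrder_of_finite g)) _ _ fun n => by
    rw [finEquivZPowers_apply]).symm

/-- Joint multiplicity of three commuting elements. -/
theorem joint {χ : G → ℂ} (hχ : IsCharacter G χ) {a b v : G} (ha : orderOf a = 2)
    (hb : orderOf b = 2) (hab : Commute a b) (hav : Commute a v) (hbv : Commute b v)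
    (s t : ℂˣ) (hs : s ^ 2 = 1) (ht : t ^ 2 = 1) (z : ℂˣ) (hz : z ^ orderOf v = 1) :
    ∃ n : ℕ, ∑ l ∈ Finset.range (orderOf v), ∑ i ∈ Finset.range 2, ∑ k ∈ Finset.range 2,
        χ (a ^ i * b ^ k * v ^ l) * conj ((s : ℂ) ^ i * (t : ℂ) ^ k * (z : ℂ) ^ l) =
      4 * (orderOf v : ℂ) * n := by
  haveI : Fintype (zpowers a) := Fintype.ofFinite _
  haveI : Fintype (zpowers b) := Fintype.ofFinite _
  haveI : Fintype (zpowers v) := Fintype.ofFinite _
  have hgen : ∀ (g : G) (x : zpowers g), x ∈ zpowers (⟨g, mem_zpowers g⟩ : zpowers g) := fun g x => by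
    obtain ⟨i, hi⟩ := mem_zpowers_iff.1 x.2
    exact mem_zpowers_iff.2 ⟨i, Subtype.ext (by simpa using hi)⟩
  let hom : ∀ (g : G) (w : ℂˣ), w ^ orderOf g = 1 → (zpowers g →* ℂˣ) := fun g w hw =>
    monoidHomOfForallMemZpowers (g' := w) (hgen g)
      (by rw [Subgroup.orderOf_mk]; exact orderOf_dvd_of_pow_eq_one hw)
  have hhom : ∀ (g : G) (w : ℂˣ) (hw : w ^ orderOf g = 1) (l : ℕ),
      hom g w hw ⟨g ^ l, npow_mem_zpowers g l⟩ = w ^ l := fun g w hw l => by
    rw [show (⟨g ^ l, npow_mem_zpowers g l⟩ : zpowers g) = (⟨g, mem_zpowers g⟩ : zpowers g) ^ l from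
      Subtype.ext (by simp), map_pow]
    congr 1
    exact monoidHomOfForallMemZpowers_apply_gen (hgen g) _
  let μ : zpowers v × zpowers a × zpowers b →* G :=
    (zpowers v).subtype.noncommCoprod
      ((zpowers a).subtype.noncommCoprod (zpowers b).subtype (fun x y => by
        obtain ⟨i, hi⟩ := mem_zpowers_iff.1 x.2
        obtain ⟨j, hj⟩ := mem_zpowers_iff.1 y.2
        show Commute (x : G) (y : G)
        rw [← hi, ← hj]
        exact hab.zpow_zpow i j))
      (fun x y => by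
        obtain ⟨i, hi⟩ := mem_zpowers_iff.1 x.2
        obtain ⟨j, hj⟩ := mem_zpowers_iff.1 y.1.2
        obtain ⟨k, hk⟩ := mem_zpowers_iff.1 y.2.2
        show Commute (x : G) ((y.1 : G) * (y.2 : G))
        rw [← hi, ← hj, ← hk]
        exact (hav.symm.zpow_zpow i j).mul_right (hbv.symm.zpow_zpow i k))
  let hs' : s ^ orderOf a = 1 := by rw [ha]; exact hs
  let ht' : t ^ orderOf b = 1 := by rw [hb]; exact ht
  let lam : zpowers v × zpowers a × zpowers b →* ℂˣ :=
    ((hom v z hz).comp (MonoidHom.fst _ _)) *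
      (((hom a s hs').comp ((MonoidHom.fst _ _).comp (MonoidHom.snd _ _))) *
        ((hom b t ht').comp ((MonoidHom.snd _ _).comp (MonoidHom.snd _ _))))
  obtain ⟨n, hn⟩ := H12.IsCharacter.classInner_nat (H12.IsCharacter.comp hχ μ)
    (H12.isCharacter_monoidHom lam)
  refine ⟨n, ?_⟩
  have h1 := H12.sum_mul_conj_eq_card_mul (χ ∘ μ) (fun g => (lam g : ℂ))
  rw [hn, Nat.card_prod, Nat.card_prod, Nat.card_zpowers, Nat.card_zpowers, Nat.card_zpowers, ha, hb,
    Fintype.sum_prod_type, sum_zpowers_eq] at h1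
  rw [show (4 : ℂ) * (orderOf v : ℂ) = ((orderOf v * (2 * 2) : ℕ) : ℂ) by push_cast; ring, ← h1]
  refine Finset.sum_congr rfl fun l _ => ?_
  rw [Fintype.sum_prod_type, sum_zpowers_eq, ha]
  refine Finset.sum_congr rfl fun i _ => ?_
  rw [sum_zpowers_eq, hb]
  refine Finset.sum_congr rfl fun k _ => ?_
  simp only [Function.comp_apply, μ, lam, MonoidHom.noncommCoprod_apply, Subgroup.coe_subtype,
    MonoidHom.mul_apply, MonoidHom.comp_apply, MonoidHom.coe_fst, MonoidHom.coe_snd, hhom,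
    Units.val_mul, Units.val_pow_eq_pow_val]
  congr 1
  · congr 1
    exact (((hav.pow_pow i l).symm.mul_right (hbv.pow_pow k l).symm)).symm.eq
  · congr 1
    ring

/-- A character with value `±1` on the three involutions of a four-group and constant on their
cosets by a commuting real element of odd order has degree at least `9`. -/
theorem nine_le (χ : IrrCharacter G) {a b v : G} (ha : orderOf a = 2)
    (hb : orderOf b = 2) (hab : Commute a b) (hav : Commute a v) (hbv : Commute b v)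
    (hv : Odd (orderOf v)) (hker : (χ : G → ℂ) v ≠ (χ : G → ℂ) 1) (hreal : IsConj v v⁻¹)
    {ε : ℤ} (hε : ε = 1 ∨ ε = -1)
    (hA : ∀ l : ℕ, (χ : G → ℂ) (a * v ^ l) = ε ∧ (χ : G → ℂ) (b * v ^ l) = ε ∧
      (χ : G → ℂ) (a * b * v ^ l) = ε) :
    9 ≤ H12.degree (χ : G → ℂ) := by
  set r := orderOf v with hr
  have hr0 : 0 < r := orderOf_pos v
  obtain ⟨ζ, hζ⟩ : ∃ ζ : ℂ, IsPrimitiveRoot ζ r := ⟨_, Complex.isPrimitiveRoot_exp r hr0.ne'⟩
  obtain ⟨c, hc1, hc2⟩ := H65.DB_mult hr0 hζ hr.symm χ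
  obtain ⟨m, ρ, -, hρ⟩ := χ.2
  have hχ : IsCharacter G (χ : G → ℂ) := ⟨m, ρ, hρ⟩
  set S : ℕ → ℂ := fun j => ∑ l ∈ Finset.range r, ζ ^ ((r - j) * l) with hSdef
  have hS : ∀ j < r, S j = if j = 0 then (r : ℂ) else 0 := by
    intro j hj
    rw [hSdef]
    simp only
    rw [H65.DB_geom hr0 hζ]
    rcases Nat.eq_zero_or_pos j with rfl | hj0
    · simp
    · rw [if_neg hj0.ne', if_neg]
      intro hd
      have := Nat.le_of_dvd (by omega) hd
      omega
  have key : ∀ j < r, ∀ s t : ℂˣ, s ^ 2 = 1 → t ^ 2 = 1 → conj (s : ℂ) = s → conj (t : ℂ) = t →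
      ∃ n : ℕ, (r : ℂ) * (c j) + (ε : ℂ) * ((s : ℂ) + t + (s : ℂ) * t) * S j = 4 * (r : ℂ) * n := by
    intro j hj s t hs ht hs' ht'
    have hζ0 : ζ ^ j ≠ 0 := pow_ne_zero _ (hζ.ne_zero hr0.ne')
    have hzr : (Units.mk0 _ hζ0) ^ r = 1 := by
      ext
      simp only [Units.val_pow_eq_pow_val, Units.val_mk0, Units.val_one]
      rw [← pow_mul, mul_comm, pow_mul, hζ.pow_eq_one, one_pow]
    obtain ⟨n, hn⟩ := joint hχ ha hb hab hav hbv s t hs ht (Units.mk0 _ hζ0) hzr
    refine ⟨n, ?_⟩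
    rw [← hr] at hn
    rw [← hn]
    have hconj : ∀ l : ℕ, conj ((ζ ^ j) ^ l) = ζ ^ ((r - j) * l) := by
      intro l
      rw [← pow_mul, map_pow, ← Complex.inv_eq_conj (hζ.norm'_eq_one hr0.ne'), inv_pow,
        H65.DB_pow_sub hζ hj.le]
    rw [Finset.sum_congr rfl fun l _ => show ∑ i ∈ Finset.range 2, ∑ k ∈ Finset.range 2,
        (χ : G → ℂ) (a ^ i * b ^ k * v ^ l) *
          conj ((s : ℂ) ^ i * (t : ℂ) ^ k * ((Units.mk0 _ hζ0 : ℂˣ) : ℂ) ^ l) =
      (χ : G → ℂ) (v ^ l) * ζ ^ ((r - j) * l) +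
        (ε : ℂ) * ((s : ℂ) + t + (s : ℂ) * t) * ζ ^ ((r - j) * l) by
      obtain ⟨e1, e2, e3⟩ := hA l
      simp only [Finset.sum_range_succ, Finset.sum_range_zero, zero_add, pow_zero, pow_one, one_mul,
        mul_one, map_mul, map_one, Units.val_mk0, hconj, hs', ht', e1, e2, e3]
      ring]
    rw [Finset.sum_add_distrib, hc2 j hj, ← Finset.mul_sum]
  have hcj : ∀ j < r, j ≠ 0 → ∃ n : ℕ, c j = 4 * n := by
    intro j hj hj0
    obtain ⟨n, hn⟩ := key j hj 1 1 (one_pow 2) (one_pow 2) (by simp) (by simp)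
    rw [hS j hj, if_neg hj0, mul_zero, add_zero, mul_comm 4 (r : ℂ), mul_assoc] at hn
    exact ⟨n, by exact_mod_cast mul_left_cancel₀ (by exact_mod_cast hr0.ne' : (r : ℂ) ≠ 0) hn⟩
  have hc0 : 1 ≤ c 0 := by
    obtain ⟨n, hn⟩ := key 0 hr0 1 1 (one_pow 2) (one_pow 2) (by simp) (by simp)
    rw [hS 0 hr0, if_pos rfl] at hn
    have h1 : ((c 0 : ℤ) + 3 * ε : ℂ) = ((4 * n : ℤ) : ℂ) := by
      refine mul_left_cancel₀ (by exact_mod_cast hr0.ne' : (r : ℂ) ≠ 0) ?_
      push_cast at hn ⊢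
      linear_combination hn
    have h2 : (c 0 : ℤ) + 3 * ε = 4 * n := by exact_mod_cast h1
    rcases hε with rfl | rfl <;> omega
  -- a nontrivial eigenvalue
  have hf : (χ : G → ℂ) 1 = ∑ i ∈ Finset.range r, (c i : ℂ) := by
    have := hc1 0
    simpa using this
  have hv1 : (χ : G → ℂ) v = ∑ i ∈ Finset.range r, (c i : ℂ) * ζ ^ i := by
    have := hc1 1
    simpa using this
  obtain ⟨j, hjr, hj0, hjc⟩ : ∃ j < r, j ≠ 0 ∧ c j ≠ 0 := by
    by_contra hno
    push Not at hno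
    apply hker
    rw [hv1, hf]
    refine Finset.sum_congr rfl fun i hi => ?_
    rcases Nat.eq_zero_or_pos i with rfl | hi0
    · simp
    · simp [hno i (Finset.mem_range.1 hi) hi0.ne']
  have hne : j ≠ r - j := by
    obtain ⟨k, hk⟩ := hv
    omega
  -- the multiplicities of inverse eigenvalues agree
  have hsym : c (r - j) = c j := by
    have hval : ∀ l : ℕ, (χ : G → ℂ) (v ^ l) = conj ((χ : G → ℂ) (v ^ l)) := by
      intro l
      rw [← H12.irr_inv]
      obtain ⟨g, hg⟩ := isConj_iff.1 hreal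
      rw [← inv_pow, ← hg, conj_pow, H12.irr_isClassFunction χ]
    have h1 := hc2 j hjr
    have h2 := hc2 (r - j) (by omega)
    have h3 := congrArg conj h1
    rw [map_sum, map_mul, Complex.conj_natCast, Complex.conj_natCast] at h3
    have h4 : (r : ℂ) * (c (r - j) : ℂ) = (r : ℂ) * (c j : ℂ) := by
      rw [← h2, ← h3]
      refine Finset.sum_congr rfl fun l _ => ?_
      rw [map_mul, ← hval, map_pow, ← Complex.inv_eq_conj (hζ.norm'_eq_one hr0.ne'), inv_pow,
        show r - (r - j) = j by omega, H65.DB_pow_sub hζ hjr.le, inv_inv]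
    exact_mod_cast mul_left_cancel₀ (by exact_mod_cast hr0.ne' : (r : ℂ) ≠ 0) h4
  obtain ⟨n, hn⟩ := hcj j hjr hj0
  have hdeg : (H12.degree (χ : G → ℂ) : ℂ) = ((∑ i ∈ Finset.range r, c i : ℕ) : ℂ) := by
    push_cast
    rw [← hf, H12.irr_apply_one]
  have hdeg' : H12.degree (χ : G → ℂ) = ∑ i ∈ Finset.range r, c i := by exact_mod_cast hdeg
  rw [hdeg']
  have hsub : ∑ i ∈ ({0, j, r - j} : Finset ℕ), c i ≤ ∑ i ∈ Finset.range r, c i :=
    Finset.sum_le_sum_of_subset (by
      intro i hi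
      simp only [Finset.mem_insert, Finset.mem_singleton] at hi
      rw [Finset.mem_range]
      omega)
  rw [Finset.sum_insert (by simp; omega), Finset.sum_pair hne, hsym, hn] at hsub
  omega

end H6.SmallCent
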