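import Cfsg.Agent.H6.SmallCent.Setup
import Cfsg.Agent.H6.SmallCent.Degree
import Cfsg.Agent.H6.SmallCent.Arith
import Cfsg.Agent.H20.Knorr

/-!
The principal 2-block in the configuration: the degree equations.
-/

set_option autoImplicit false
set_option linter.style.haveILetI false
set_option linter.unusedSectionVars false

namespace H6.SmallCent

open Subgroup Cfsg H68
open scoped Classical ComplexConjugate

universe u

namespace Conf

variable {G : Type u} [Group G] [Fintype G] (h : Conf G) {M : Ideal AlgInt} [M.IsPrime]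

/-- Principal block characters are constant on the section of the central involution. -/
theorem value_section (hM : IsPModular 2 M) {χ : IrrCharacter G} (hχ : χ ∈ principalBlock M G)
    {v : G} (hv : v ∈ h.U) : (χ : G → ℂ) (h.J * v) = (χ : G → ℂ) h.J := by
  haveI : Fact (Nat.Prime 2) := ⟨Nat.prime_two⟩
  obtain ⟨hc, hodd⟩ := h.mem_U.1 hv
  haveI : Fintype ↥(centralizer ({h.J} : Set G)) := Fintype.ofFinite _
  let w : ↥(centralizer ({h.J} : Set G)) := ⟨v, mem_centralizer_singleton_iff.2 hc.eq⟩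
  have hw : ¬ 2 ∣ orderOf w := by
    rw [← Subgroup.orderOf_coe]; exact hodd.not_two_dvd_nat
  have h1 : ¬ 2 ∣ orderOf (1 : ↥(centralizer ({h.J} : Set G))) := by simp
  have key : ∀ a b : ↥(centralizer ({h.J} : Set G)), ¬ 2 ∣ orderOf a → ¬ 2 ∣ orderOf b →
      ∑ ψ ∈ H22.blockFinset (principalBlock M G),
        (ψ : G → ℂ) (h.J * (a : G)) * conj ((ψ : G → ℂ) (h.J * (b : G))) =
      (2 : ℂ) ^ (Nat.card ↥(centralizer ({h.J} : Set G))).factorization 2 := by
    intro a b ha hb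
    have hcc : HasNormalPComplement 2 ↥(centralizer ({h.J} : Set G)) := h.hasComplement
    rw [H22.Sub.principal_section_orth hM ⟨1, by rw [h.J_two]; rfl⟩ a b ha hb,
      H22.Sub.sum_principal_of_complement (M := M) hM hcc ha hb]
    norm_num
  have hsum : ∑ ψ ∈ H22.blockFinset (principalBlock M G),
      Complex.normSq ((ψ : G → ℂ) (h.J * v) - (ψ : G → ℂ) h.J) = 0 := by
    apply Complex.ofReal_injective
    push_cast
    simp only [← Complex.mul_conj, map_sub, sub_mul, mul_sub, Finset.sum_sub_distrib]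
    have e1 := key w w hw hw
    have e2 := key w 1 hw h1
    have e3 := key 1 w h1 hw
    have e4 := key 1 1 h1 h1
    simp only [Subgroup.coe_one, mul_one] at e2 e3 e4
    rw [e1, e2, e3, e4]
    ring
  exact sub_eq_zero.mp (Complex.normSq_eq_zero.mp
    ((Finset.sum_eq_zero_iff_of_nonneg fun ψ _ => Complex.normSq_nonneg _).mp hsum χ
      (H22.mem_blockFinset.mpr hχ)))

/-- The value on the section of any involution. -/
theorem value_invol (hM : IsPModular 2 M) {χ : IrrCharacter G} (hχ : χ ∈ principalBlock M G)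
    {s v : G} (hs : orderOf s = 2) (hc : Commute s v) (hv : Odd (orderOf v)) :
    (χ : G → ℂ) (s * v) = (χ : G → ℂ) h.J := by
  obtain ⟨g, hg⟩ := isConj_iff.1 (h.isConj_J hs)
  have hv' : g⁻¹ * v * g ∈ h.U := by
    refine h.mem_U.2 ⟨?_, ?_⟩
    · show g⁻¹ * v * g * h.J = h.J * (g⁻¹ * v * g)
      calc g⁻¹ * v * g * h.J = g⁻¹ * (v * (g * h.J * g⁻¹)) * g := by group
        _ = g⁻¹ * (s * v) * g := by rw [hg, hc.eq]
        _ = h.J * (g⁻¹ * v * g) := by rw [← hg]; group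
    · rw [show g⁻¹ * v * g = MulAut.conj g⁻¹ v by simp, MulEquiv.orderOf_eq]
      exact hv
  rw [← h.value_section hM hχ hv', ← H12.irr_isClassFunction χ (h.J * (g⁻¹ * v * g)) g]
  congr 1
  rw [← hg]
  group

theorem exists_refl : ∃ t, t ∈ (h.P : Subgroup G) ∧ t ∉ zpowers h.y := h.dih.exists_out

variable {t : G} (ht : t ∈ (h.P : Subgroup G)) (htA : t ∉ zpowers h.y)
include ht htA

/-- Nontrivial characters of the principal block with value `±1` at the involution have degree at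
least `9`. -/
theorem degree_nine (hM : IsPModular 2 M) {χ : IrrCharacter G} (hχ : χ ∈ principalBlock M G)
    (h1 : (χ : G → ℂ) ≠ fun _ => 1) {ε : ℤ} (hε : ε = 1 ∨ ε = -1)
    (hval : (χ : G → ℂ) h.J = ε) {v : G} (hv : v ∈ h.fixU t) (hv1 : v ≠ 1) :
    9 ≤ H12.degree (χ : G → ℂ) := by
  obtain ⟨hvU, hvt⟩ := (h.mem_fix ht htA).1 hv
  obtain ⟨hvJ, hvodd⟩ := h.mem_U.1 hvU
  have hker : (χ : G → ℂ) v ≠ (χ : G → ℂ) 1 := by
    intro e
    obtain ⟨n, ρ, -, hρ⟩ := χ.2
    have hch : IsCharacter G (χ : G → ℂ) := ⟨n, ρ, hρ⟩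
    haveI := h.simple
    haveI := H12.charKer_normal hch
    rcases (inferInstance : (H12.charKer (χ : G → ℂ) hch).Normal).eq_bot_or_eq_top with hb | hb
    · exact hv1 (mem_bot.1 (hb ▸ (show v ∈ H12.charKer (χ : G → ℂ) hch from e)))
    · apply h1
      have hall : ∀ g : G, (χ : G → ℂ) g = (χ : G → ℂ) 1 := fun g =>
        (show g ∈ H12.charKer (χ : G → ℂ) hch from hb ▸ mem_top g)
      have hi := H12.classInner_irr_self χ
      rw [H12.classInner_def, Finset.sum_congr rfl (fun g _ => by rw [hall g]), Finset.sum_const,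
        Finset.card_univ, nsmul_eq_mul, ← Nat.card_eq_fintype_card,
        inv_mul_cancel_left₀ (H12.card_ne_zero' (G := G)), H12.irr_apply_one, Complex.conj_natCast] at hi
      have hd : H12.degree (χ : G → ℂ) * H12.degree (χ : G → ℂ) = 1 := by exact_mod_cast hi
      funext g
      rw [hall g, H12.irr_apply_one, Nat.eq_one_of_mul_eq_one_left hd]
      norm_num
  have hord : ∀ l : ℕ, Odd (orderOf (v ^ l)) := fun l => hvodd.of_dvd_nat (orderOf_pow_dvd l)
  refine nine_le χ h.J_two (h.t_two ht htA) (h.t_J ht htA).symm hvJ.symm hvt.symm hvodd hker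
    (isConj_iff.2 ⟨h.y, h.y_inv hvU⟩) hε fun l => ?_
  have hJt : orderOf (h.J * t) = 2 := orderOf_eq_prime (by
      rw [(h.t_J ht htA).symm.mul_pow, ← h.J_two, pow_orderOf_eq_one, one_mul, h.J_two,
        ← h.t_two ht htA, pow_orderOf_eq_one]) fun e => htA (by
      rw [← inv_eq_of_mul_eq_one_right e]; exact inv_mem h.dih.dz_mem_zpowers)
  refine ⟨?_, ?_, ?_⟩
  · rw [h.value_invol hM hχ h.J_two (hvJ.symm.pow_right l) (hord l), hval]
  · rw [h.value_invol hM hχ (h.t_two ht htA) (hvt.symm.pow_right l) (hord l), hval]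
  · rw [h.value_invol hM hχ hJt ((hvJ.symm.mul_left hvt.symm).pow_right l) (hord l), hval]

omit ht htA in
/-- Three nontrivial characters with the degree equation. -/
theorem doPhi_y {s : G} (hs : s ∈ (h.P : Subgroup G)) (hsA : s ∉ zpowers h.y) :
    H65.doPhi h.J h.y = 4 * (Nat.card h.CJ : ℂ) ^ 2 := by
  have hfc : ∀ a : G, (∑ g : G, if g * h.J * g⁻¹ = a then (1 : ℂ) else 0) =
      if IsConj h.J a then (Nat.card h.CJ : ℂ) else 0 := by
    intro a
    split_ifs with ha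
    · obtain ⟨d, rfl⟩ := isConj_iff.1 ha
      simp only [← Finset.sum_filter, Finset.sum_const, nsmul_one, Nat.cast_inj]
      rw [← Fintype.card_subtype, Fintype.card_eq_nat_card]
      refine Nat.card_congr ((Equiv.mulLeft d⁻¹).subtypeEquiv fun g => ?_)
      rw [Equiv.coe_mulLeft, CJ, mem_centralizer_singleton_iff]
      constructor
      · intro e
        calc d⁻¹ * g * h.J = d⁻¹ * (g * h.J * g⁻¹) * g := by group
          _ = h.J * (d⁻¹ * g) := by rw [e]; group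
      · intro e
        calc g * h.J * g⁻¹ = d * (d⁻¹ * g * h.J) * g⁻¹ := by group
          _ = d * h.J * d⁻¹ := by rw [e]; group
    · exact Finset.sum_eq_zero fun g _ => if_neg fun e => ha (isConj_iff.2 ⟨g, e⟩)
  have hΦ : H65.doPhi h.J h.y = ∑ a : G, (∑ g : G, if g * h.J * g⁻¹ = a then (1 : ℂ) else 0) *
      (∑ g : G, if g * h.J * g⁻¹ = a⁻¹ * h.y then (1 : ℂ) else 0) := by
    simp only [H65.doPhi, Finset.sum_mul, ite_mul, one_mul, zero_mul]
    rw [Finset.sum_comm (γ := G) (f := fun a g => if g * h.J * g⁻¹ = a then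
      ∑ w : G, if w * h.J * w⁻¹ = a⁻¹ * h.y then (1 : ℂ) else 0 else 0)]
    refine Finset.sum_congr rfl fun g _ => ?_
    rw [Finset.sum_ite_eq, if_pos (Finset.mem_univ _)]
    exact Finset.sum_congr rfl fun w _ => if_congr eq_inv_mul_iff_mul_eq.symm rfl rfl
  rw [hΦ]
  simp only [hfc, ite_mul, mul_ite, zero_mul, mul_zero, ← ite_and, ← Finset.sum_filter,
    Finset.sum_const, nsmul_eq_mul]
  have hy2 : h.y ^ 2 ≠ 1 := fun e => h.J_ne (h.J_eq.trans e)
  have hsy : s * h.y * s⁻¹ = h.y⁻¹ := by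
    have := h.dih.conj_zpow' hs hsA 1
    simpa using this
  have h4 : (Finset.univ.filter fun a : G => IsConj h.J (a⁻¹ * h.y) ∧ IsConj h.J a).card = 4 := by
    rw [← Fintype.card_subtype, Fintype.card_eq_nat_card, ← h.hC, ← H65.card_inverters hsy]
    refine Nat.card_congr (Equiv.subtypeEquivRight fun a => ?_)
    constructor
    · rintro ⟨h1, h2⟩
      obtain ⟨g1, hg1⟩ := isConj_iff.1 h1
      obtain ⟨g2, hg2⟩ := isConj_iff.1 h2
      have ha2 : orderOf a = 2 := by rw [← hg2, ← MulAut.conj_apply, MulEquiv.orderOf_eq, h.J_two]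
      refine H65.inverts_of_two ha2 ?_
      rw [← H65.inv_of_two ha2, ← hg1, ← MulAut.conj_apply, MulEquiv.orderOf_eq, h.J_two]
    · intro ha
      have h1 : s⁻¹ * a ∈ zpowers h.y := h.cent_y ▸ mem_centralizer_singleton_iff.2 (by
        calc s⁻¹ * a * h.y = s⁻¹ * (a * h.y * a⁻¹) * a := by group
          _ = s⁻¹ * (s * h.y * s⁻¹) * a := by rw [ha, hsy]
          _ = h.y * (s⁻¹ * a) := by group)
      obtain ⟨i, hi⟩ := mem_zpowers_iff.1 h1
      have haP : a ∈ (h.P : Subgroup G) := by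
        rw [show a = s * h.y ^ i by rw [hi, mul_inv_cancel_left]]
        exact mul_mem hs (zpow_mem h.dih.mem i)
      have haA : a ∉ zpowers h.y := fun hmem => hsA (by
        rw [show s = a * (h.y ^ i)⁻¹ by rw [hi]; group]
        exact mul_mem hmem (inv_mem (zpow_mem (mem_zpowers _) i)))
      have hayA : a⁻¹ * h.y ∉ zpowers h.y := fun hmem =>
        haA (inv_mem_iff.1 ((Subgroup.mul_mem_cancel_right _ (mem_zpowers h.y)).1 hmem))
      exact ⟨h.isConj_J (h.t_two (mul_mem (inv_mem haP) h.dih.mem) hayA),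
        h.isConj_J (h.t_two haP haA)⟩
  rw [h4]
  push_cast
  ring

/-- The degree equations. -/
theorem exists_eqns (hU : Nat.card h.U ≠ 1) :
    ∃ A c d : ℤ, Eqns (Nat.card G) (Nat.card (h.fixU t)) (Nat.card (h.fixU (h.y * t))) A c d := by
  haveI : Fact (Nat.Prime 2) := ⟨Nat.prime_two⟩
  obtain ⟨M, hM⟩ := H20.exists_isPModular Nat.prime_two
  haveI := H20.isPrime_of_modular hM
  obtain ⟨ζ, hζ⟩ : ∃ ζ : ℂ, IsPrimitiveRoot ζ (2 ^ (0 + 2)) :=
    ⟨_, Complex.isPrimitiveRoot_exp _ (by norm_num)⟩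
  have hζ2 : ζ ^ 2 = -1 :=
    (hζ.pow (by norm_num) (show (2 : ℕ) ^ (0 + 2) = 2 * 2 by norm_num)).eq_neg_one_of_two_right
  obtain ⟨-, χ₁, χ₂, χ₃, χ', δ₁, δ₂, δ₃, hd1, hd2, hd3, -, n1, n2, n3, h12, h13, h23, hχ', hset,
    hval, hdeg⟩ := H65.DB_principal hM h.P h.dih h.eP h.hk hζ
  let j : Fin (2 ^ (0 + 1) - 1) := ⟨0, by norm_num⟩
  have hj : ∀ i : Fin (2 ^ (0 + 1) - 1), i = j := fun i => Fin.ext (by have := i.2; simp [j] at this ⊢)
  obtain ⟨hv11, hv12, hv13, hv1'⟩ := hval 1 one_pos (by norm_num)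
  obtain ⟨hv21, hv22, hv23, hv2'⟩ := hval 2 two_pos (by norm_num)
  obtain ⟨hv31, -, -, -⟩ := hval 3 (by norm_num) (by norm_num)
  have hv1'' := hv1' j
  have hv2'' := hv2' j
  simp only [show ((j : Fin (2 ^ (0 + 1) - 1)) : ℕ) = 0 from rfl, zero_add, one_mul, pow_one] at hv1'' hv2''
  have hζ0 : ζ ≠ 0 := hζ.ne_zero (by norm_num)
  have hζi : ζ + ζ⁻¹ = 0 := by
    field_simp
    linear_combination hζ2
  rw [hζi, mul_zero] at hv1''
  rw [hζ2] at hv2''
  norm_num at hv12 hv13 hv2'' hv22 hv23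
  rw [← h.J_eq] at hv21 hv22 hv23 hv2''
  simp only [pow_one] at hv11 hv12 hv13 hv1''
  -- degrees
  set f₁ := H12.degree (χ₁ : G → ℂ) with hf1
  set f₂ := H12.degree (χ₂ : G → ℂ) with hf2
  set f₃ := H12.degree (χ₃ : G → ℂ) with hf3
  obtain ⟨e1, e2⟩ := hdeg 1 (by simp) j
  rw [H12.irr_apply_one χ₁, ← hf1] at e1 e2
  rw [H12.irr_apply_one χ₂, H12.irr_apply_one χ₃, ← hf2, ← hf3] at e1
  set A : ℤ := δ₁ * f₁ with hA
  set c : ℤ := -δ₂ * f₂ with hc
  set d : ℤ := -δ₃ * f₃ with hd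
  have hsum : c + d = 1 + A := by
    have : ((c + d : ℤ) : ℂ) = ((1 + A : ℤ) : ℂ) := by
      rw [hA, hc, hd]; push_cast; linear_combination -e1
    exact_mod_cast this
  have hmem1 : χ₁ ∈ principalBlock M G := by rw [hset]; exact Or.inr (Or.inl rfl)
  have hmem2 : χ₂ ∈ principalBlock M G := by rw [hset]; exact Or.inr (Or.inr (Or.inl rfl))
  have hmem3 : χ₃ ∈ principalBlock M G := by rw [hset]; exact Or.inr (Or.inr (Or.inr (Or.inl rfl)))
  obtain ⟨s, hs, hsA, v, hv, hv1⟩ : ∃ s, s ∈ (h.P : Subgroup G) ∧ s ∉ zpowers h.y ∧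
      ∃ v, v ∈ h.fixU s ∧ v ≠ 1 := by
    have e := h.card_U ht htA
    by_contra hno
    push Not at hno
    have b1 : h.fixU t = ⊥ := (eq_bot_iff_forall _).2 fun v hv => hno t ht htA v hv
    have b2 : h.fixU (h.y * t) = ⊥ := (eq_bot_iff_forall _).2 fun v hv =>
      hno _ (h.yt_mem ht htA) (h.yt_notin ht htA) v hv
    rw [b1, b2, card_bot, mul_one] at e
    exact hU e
  have h9 : 9 ≤ f₁ ∧ 9 ≤ f₂ ∧ 9 ≤ f₃ :=
    ⟨h.degree_nine hs hsA hM hmem1 n1 hd1 hv21 hv hv1,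
      h.degree_nine hs hsA hM hmem2 n2 (ε := -δ₂) (by omega) (by rw [hv22]; push_cast; ring) hv hv1,
      h.degree_nine hs hsA hM hmem3 n3 (ε := -δ₃) (by omega) (by rw [hv23]; push_cast; ring) hv hv1⟩
  obtain ⟨hf1', hf2', hf3'⟩ := h9
  -- `A` modulo four
  have hA4 : A % 4 = 1 := by
    obtain ⟨a, -, ha2⟩ := H65.DB_mult (show 0 < 2 ^ (0 + 2) by norm_num) hζ h.hk χ₁
    have e := ha2 0 (by norm_num)
    have hz4 : ∀ l : ℕ, ζ ^ ((2 ^ (0 + 2) - 0) * l) = 1 := fun l => by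
      rw [Nat.sub_zero, pow_mul, hζ.pow_eq_one, one_pow]
    simp only [hz4, mul_one] at e
    rw [show (2 : ℕ) ^ (0 + 2) = 4 by norm_num] at e
    simp only [Finset.sum_range_succ, Finset.sum_range_zero, zero_add, pow_zero, pow_one] at e
    rw [H12.irr_apply_one χ₁, ← hf1, hv11, ← h.J_eq, hv21, hv31] at e
    have e' : ((f₁ : ℤ) + 3 * δ₁) = 4 * (a 0 : ℤ) := by
      have : (((f₁ : ℤ) + 3 * δ₁ : ℤ) : ℂ) = ((4 * (a 0 : ℤ) : ℤ) : ℂ) := by
        push_cast; linear_combination e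
      exact_mod_cast this
    rcases hd1 with e'' | e'' <;> rw [hA, e''] <;> rw [e''] at e' <;> omega
  have hAne : A ≠ 0 ∧ 1 + A ≠ 0 := by
    rcases hd1 with e | e <;> rw [hA, e] <;> omega
  -- the block
  let B : Finset (IrrCharacter G) := {H12.oneIrr G, χ₁, χ₂, χ₃, χ' j}
  have hB : H22.blockFinset (principalBlock M G) = B := by
    ext χ
    rw [H22.mem_blockFinset, hset]
    simp only [B, Set.mem_setOf_eq, Finset.mem_insert, Finset.mem_singleton]
    constructor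
    · rintro (e | e | e | e | ⟨i, e⟩)
      exacts [Or.inl (Subtype.ext e), Or.inr (Or.inl e), Or.inr (Or.inr (Or.inl e)),
        Or.inr (Or.inr (Or.inr (Or.inl e))), Or.inr (Or.inr (Or.inr (Or.inr (hj i ▸ e))))]
    · rintro (e | e | e | e | e)
      exacts [Or.inl (e ▸ rfl), Or.inr (Or.inl e), Or.inr (Or.inr (Or.inl e)),
        Or.inr (Or.inr (Or.inr (Or.inl e))), Or.inr (Or.inr (Or.inr (Or.inr ⟨j, e⟩)))]
  obtain ⟨hp1, hp2, hp3, hp0⟩ := hχ' j
  have hexp : ∀ F : IrrCharacter G → ℂ, ∑ χ ∈ H22.blockFinset (principalBlock M G), F χ =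
      F (H12.oneIrr G) + (F χ₁ + (F χ₂ + (F χ₃ + F (χ' j)))) := by
    intro F
    rw [hB]
    simp only [B]
    rw [Finset.sum_insert, Finset.sum_insert, Finset.sum_insert, Finset.sum_pair (Ne.symm hp3)]
    · simp only [Finset.mem_insert, Finset.mem_singleton, not_or]; exact ⟨h23, Ne.symm hp2⟩
    · simp only [Finset.mem_insert, Finset.mem_singleton, not_or]; exact ⟨h12, h13, Ne.symm hp1⟩
    · simp only [Finset.mem_insert, Finset.mem_singleton, not_or]
      exact ⟨fun e => n1 (e ▸ rfl), fun e => n2 (e ▸ rfl), fun e => n3 (e ▸ rfl), fun e => hp0 (e ▸ rfl)⟩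
  have hd1' : (δ₁ : ℂ) * δ₁ = 1 := by rcases hd1 with e | e <;> simp [e]
  have hd2' : (δ₂ : ℂ) * δ₂ = 1 := by rcases hd2 with e | e <;> simp [e]
  have hd3' : (δ₃ : ℂ) * δ₃ = 1 := by rcases hd3 with e | e <;> simp [e]
  have hdegp : (χ' j : G → ℂ) 1 = δ₁ * ((1 + A : ℤ) : ℂ) := by
    rw [hA]; push_cast
    linear_combination (-(δ₁ : ℂ)) * e2 + (-((χ' j : G → ℂ) 1)) * hd1'
  have hinv : ∀ δ : ℤ, (δ = 1 ∨ δ = -1) → ∀ f : ℕ, (δ : ℂ) / (f : ℂ) = 1 / ((δ * f : ℤ) : ℂ) := by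
    rintro δ (rfl | rfl) f <;> push_cast <;> ring
  have hT := H65.DO_count hM h.P h.dih h.eP h.hk ht htA (h.isConj_J (h.t_two ht htA))
    (h.isConj_J (h.t_two (h.yt_mem ht htA) (h.yt_notin ht htA)))
  rw [show dz h.y = h.J from rfl, h.card_cent ht htA, h.card_cent (h.yt_mem ht htA) (h.yt_notin ht htA),
    show Nat.card (centralizer ({h.J} : Set G)) = 8 * Nat.card h.U from h.card_CJ, h.card_U ht htA, hexp] at hT
  simp only [H12.oneIrr_apply, hv11, hv12, hv13, hv1'', hv21, hv22, hv23, hv2'', H12.irr_apply_one χ₁,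
    H12.irr_apply_one χ₂, H12.irr_apply_one χ₃, ← hf1, ← hf2, ← hf3, hdegp] at hT
  have hyfilter : (Finset.univ.filter fun g : G => Commute g h.y ∧ Odd (orderOf g)) = {1} := by
    ext g
    simp only [Finset.mem_filter, Finset.mem_univ, true_and, Finset.mem_singleton]
    refine ⟨fun ⟨h1, h2⟩ => ?_, fun e => e ▸ ⟨Commute.one_left _, by simp⟩⟩
    have hm : g ∈ zpowers h.y := h.cent_y ▸ mem_centralizer_singleton_iff.2 h1.eq
    have hdv : orderOf g ∣ 2 ^ 2 := by
      rw [show (2 : ℕ) ^ 2 = Nat.card (zpowers h.y) by rw [Nat.card_zpowers, h.hy]; rfl]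
      exact Subgroup.orderOf_dvd_natCard _ hm
    exact orderOf_eq_one_iff.1
      (Nat.eq_one_of_dvd_coprimes ((Nat.coprime_two_right.2 h2).pow_right 2) dvd_rfl hdv)
  have hS := H65.DF_section hM (H65.DO_phi_class h.J) (x := h.y) ⟨2, by rw [h.hy]; rfl⟩ h.hasComplement_y
  rw [hyfilter, Finset.card_singleton, Finset.sum_singleton, Nat.cast_one, one_mul, mul_one,
    h.doPhi_y ht htA, H65.DO_phi_block h.J_inv, h.card_CJ, h.card_U ht htA, hexp] at hS
  simp only [H12.oneIrr_apply, hv11, hv12, hv13, hv1'', hv21, hv22, hv23, hv2'', H12.irr_apply_one χ₁,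
    H12.irr_apply_one χ₂, H12.irr_apply_one χ₃, ← hf1, ← hf2, ← hf3, hdegp] at hS
  set p := Nat.card (h.fixU t) with hp
  set m := Nat.card (h.fixU (h.y * t)) with hm
  have hp0' : (p : ℂ) ≠ 0 := by exact_mod_cast Nat.card_pos.ne'
  have hm0' : (m : ℂ) ≠ 0 := by exact_mod_cast Nat.card_pos.ne'
  refine ⟨A, c, d, ?_⟩
  constructor
  · exact Nat.card_pos
  · exact h.fix_odd ht htA
  · exact h.fix_odd (h.yt_mem ht htA) (h.yt_notin ht htA)
  · have h8 : Nat.card (h.P : Subgroup G) = 8 := by rw [h.dih.card_eq, h.hy]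
    have h1 := (h.P : Subgroup G).card_mul_index
    rw [h8] at h1
    have h2 := h.P.not_dvd_index
    omega
  · exact hA4
  · rw [hA, abs_mul]; rcases hd1 with e | e <;> simp [e] <;> omega
  · rw [hc, abs_mul]; rcases hd2 with e | e <;> simp [e] <;> omega
  · rw [hd, abs_mul]; rcases hd3 with e | e <;> simp [e] <;> omega
  · exact hsum
  · apply Rat.cast_injective (α := ℂ)
    push_cast at hT ⊢
    have rhs : 4 * ((8 : ℂ) * ((p : ℂ) * m)) ^ 3 * (1 / (4 * (p : ℂ)) + 1 / (4 * (m : ℂ))) ^ 2 =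
        128 * (p : ℂ) * m * ((p : ℂ) + m) ^ 2 := by field_simp; ring
    have l2 : (δ₁ : ℂ) * δ₁ * ((δ₁ : ℂ) + δ₁) / (f₁ : ℂ) = 2 / (A : ℂ) := by
      rcases hd1 with e | e <;> rw [hA, e] <;> push_cast <;> ring
    have l4 : -((δ₁ : ℂ) * 2) * -((δ₁ : ℂ) * 2) * (-((δ₁ : ℂ) * 2) + 0) / ((δ₁ : ℂ) * (1 + (A : ℂ))) =
        -8 / (1 + (A : ℂ)) := by
      rcases hd1 with e | e <;> rw [e] <;> push_cast
      · ring
      · rw [show (-1 : ℂ) * (1 + (A : ℂ)) = -(1 + (A : ℂ)) by ring, div_neg]; ring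
    rw [l2, l4, rhs] at hT
    linear_combination hT
  · apply Rat.cast_injective (α := ℂ)
    push_cast at hS ⊢
    have l1 : (δ₁ : ℂ) * δ₁ * δ₁ / (f₁ : ℂ) = 1 / (A : ℂ) := by
      rcases hd1 with e | e <;> rw [hA, e] <;> push_cast <;> ring
    have l2 : -(δ₂ : ℂ) * -(δ₂ : ℂ) * δ₂ / (f₂ : ℂ) = -(1 / (c : ℂ)) := by
      rcases hd2 with e | e <;> rw [hc, e] <;> push_cast <;> ring
    have l3 : -(δ₃ : ℂ) * -(δ₃ : ℂ) * δ₃ / (f₃ : ℂ) = -(1 / (d : ℂ)) := by
      rcases hd3 with e | e <;> rw [hd, e] <;> push_cast <;> ring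
    rw [l1, l2, l3] at hS
    linear_combination hS

end Conf

end H6.SmallCent
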