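import Cfsg.Agent.H6.SmallCent.Setup
import Cfsg.Agent.H22.KleinOrder
import Cfsg.Agent.H20.Knorr

/-!
The centraliser of a nontrivial element of the fixed part has order at least `12 * p * m ^ 3`.
-/

set_option autoImplicit false
set_option linter.style.haveILetI false
set_option linter.unusedSectionVars false

namespace H6.SmallCent

open Subgroup Cfsg H68
open scoped Classical ComplexConjugate

universe u

/-- The arithmetic bound for the sum over the four characters. -/
theorem klein_sum_le {f₂ f₃ f₄ : ℕ} {ε : ℤ} (h₂ : 0 < f₂) (h₃ : 0 < f₃) (h₄ : 0 < f₄)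
    (hε : ε = 1 ∨ ε = -1) (hrel : 1 + (f₂ : ℤ) + ε * f₃ - f₄ = 0) :
    (1 : ℝ) + 1 / f₂ + ε / f₃ - 1 / f₄ ≤ 8 / 3 := by
  have a₂ : (1 : ℝ) / f₂ ≤ 1 := by rw [div_le_one (by exact_mod_cast h₂)]; exact_mod_cast h₂
  have a₃ : (1 : ℝ) / f₃ ≤ 1 := by rw [div_le_one (by exact_mod_cast h₃)]; exact_mod_cast h₃
  have a₃' : (0 : ℝ) < 1 / f₃ := by positivity
  have a₄ : (0 : ℝ) < 1 / f₄ := by positivity
  rcases hε with rfl | rfl
  · by_cases h : f₂ = 1 ∧ f₃ = 1
    · obtain ⟨rfl, rfl⟩ := h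
      have : f₄ = 3 := by omega
      subst this
      norm_num
    · have hh : (1 : ℝ) / f₂ + 1 / f₃ ≤ 3 / 2 := by
        rcases not_and_or.1 h with h' | h'
        · have : (1 : ℝ) / f₂ ≤ 1 / 2 :=
            one_div_le_one_div_of_le (by norm_num) (by exact_mod_cast (show 2 ≤ f₂ by omega))
          linarith
        · have : (1 : ℝ) / f₃ ≤ 1 / 2 :=
            one_div_le_one_div_of_le (by norm_num) (by exact_mod_cast (show 2 ≤ f₃ by omega))
          linarith
      push_cast
      linarith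
  · push_cast
    rw [neg_div]
    linarith

/-- A lower bound for the order of a group with a Klein Sylow subgroup and one class of involutions. -/
theorem klein_order_bound {H : Type u} [Group H] [Fintype H] (P : Sylow 2 H) (hP : Nat.card P = 4)
    (hexp : ∀ x ∈ (P : Subgroup H), x * x = 1)
    (hone : ∀ s t : H, orderOf s = 2 → orderOf t = 2 → IsConj s t)
    {J : H} (hJP : J ∈ (P : Subgroup H)) (hJ : orderOf J = 2) :
    3 * (Nat.card ↥(centralizer ({J} : Set H))) ^ 3 ≤
      Nat.card H * (Nat.card ↥(centralizer ((P : Subgroup H) : Set H))) ^ 2 := by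
  haveI : Fact (Nat.Prime 2) := ⟨Nat.prime_two⟩
  obtain ⟨M, hM⟩ := H20.exists_isPModular Nat.prime_two
  haveI := H20.isPrime_of_modular hM
  have hce := H22.Klein.count_eq P hP hexp hone hJP hJ hM
  obtain ⟨z₂, z₃, z₄, ε, hε, n2, n3, h23, h24, h34, hset, hval, -, -, -, hrel⟩ :=
    H22.Klein.principal_signs hM P hP hexp hone
  have n4 : (z₄ : H → ℂ) ≠ fun _ => 1 := fun e => by
    have h := (hval J hJ).2.2
    rw [e] at h
    norm_num at h
  obtain ⟨v2, v3, v4⟩ := hval J hJ
  have hB : H22.blockFinset (principalBlock M H) = {H12.oneIrr H, z₂, z₃, z₄} := by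
    ext χ
    rw [H22.mem_blockFinset, hset]
    simp only [Set.mem_setOf_eq, Finset.mem_insert, Finset.mem_singleton]
    exact or_congr ⟨fun e => Subtype.ext e, fun e => e ▸ rfl⟩ Iff.rfl
  rw [hB, Finset.sum_insert (by
      simp only [Finset.mem_insert, Finset.mem_singleton, not_or]
      exact ⟨fun e => n2 (e ▸ rfl), fun e => n3 (e ▸ rfl), fun e => n4 (e ▸ rfl)⟩),
    Finset.sum_insert (by simp only [Finset.mem_insert, Finset.mem_singleton, not_or]; exact ⟨h23, h24⟩),
    Finset.sum_pair h34] at hce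
  simp only [H12.oneIrr_apply, v2, v3, v4, H12.irr_apply_one] at hce
  set f₂ := H12.degree (z₂ : H → ℂ) with hf2
  set f₃ := H12.degree (z₃ : H → ℂ) with hf3
  set f₄ := H12.degree (z₄ : H → ℂ) with hf4
  have hr := hrel 1 (by simp)
  simp only [H12.irr_apply_one, ← hf2, ← hf3, ← hf4] at hr
  have hr' : 1 + (f₂ : ℤ) + ε * f₃ - f₄ = 0 := by exact_mod_cast hr
  have hle := klein_sum_le (H12.irr_degree_pos z₂) (H12.irr_degree_pos z₃) (H12.irr_degree_pos z₄) hε hr'
  set n := Nat.card H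
  set c := Nat.card ↥(centralizer ({J} : Set H))
  set q := Nat.card ↥(centralizer ((P : Subgroup H) : Set H))
  have hεεε : (ε : ℂ) * ε * ε = ε := by rcases hε with e | e <;> simp [e]
  have hce' : (n : ℝ) * (1 + 1 / (f₂ : ℝ) + (ε : ℝ) / f₃ - 1 / (f₄ : ℝ)) * (q : ℝ) ^ 2 = 8 * (c : ℝ) ^ 3 := by
    apply Complex.ofReal_injective
    push_cast
    rw [hεεε] at hce
    rw [← hce]
    ring
  have h1 : 8 * (c : ℝ) ^ 3 ≤ (n : ℝ) * (8 / 3) * (q : ℝ) ^ 2 := by
    rw [← hce']
    exact mul_le_mul_of_nonneg_right (mul_le_mul_of_nonneg_left hle (by positivity)) (by positivity)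
  have h2 : (3 : ℝ) * (c : ℝ) ^ 3 ≤ (n : ℝ) * (q : ℝ) ^ 2 := by linarith
  exact_mod_cast h2

/-- Centralisers of conjugate elements have the same order. -/
theorem card_cent_conj {G : Type u} [Group G] (g a : G) :
    Nat.card ↥(centralizer ({g * a * g⁻¹} : Set G)) = Nat.card ↥(centralizer ({a} : Set G)) := by
  refine (Nat.card_congr ((MulAut.conj g).toEquiv.subtypeEquiv fun w => ?_)).symm
  simp only [mem_centralizer_singleton_iff, MulEquiv.toEquiv_eq_coe, EquivLike.coe_coe, MulAut.conj_apply]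
  constructor
  · intro e
    calc g * w * g⁻¹ * (g * a * g⁻¹) = g * (w * a) * g⁻¹ := by group
      _ = g * a * g⁻¹ * (g * w * g⁻¹) := by rw [e]; group
  · intro e
    calc w * a = g⁻¹ * (g * w * g⁻¹ * (g * a * g⁻¹)) * g := by group
      _ = a * w := by rw [e]; group

namespace Conf

variable {G : Type u} [Group G] [Fintype G] (h : Conf G)
variable {t : G} (ht : t ∈ (h.P : Subgroup G)) (htA : t ∉ zpowers h.y)
include ht htA

theorem y_conj : h.y * t * h.y⁻¹ = h.J * t := by
  have e := h.dih.zpow_mul_comm' ht htA (-1)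
  rw [zpow_neg, zpow_one, neg_neg, zpow_one] at e
  rw [mul_assoc, e, ← mul_assoc, ← pow_two, ← h.J_eq]

theorem y_conj_J : h.y * h.J * h.y⁻¹ = h.J := by
  rw [h.J_eq]; group

theorem mem_cent {g : G} : g ∈ centralizer ({h.J, t} : Set G) ↔ Commute g h.J ∧ Commute g t := by
  rw [mem_centralizer_iff]
  simp only [Set.mem_insert_iff, Set.mem_singleton_iff, forall_eq_or_imp, forall_eq]
  exact and_congr ⟨fun e => e.symm, fun e => e.symm⟩ ⟨fun e => e.symm, fun e => e.symm⟩

theorem Jt_comm_iff {g : G} (hJ : Commute g h.J) : Commute g (h.J * t) ↔ Commute g t := by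
  constructor
  · intro e
    have := hJ.inv_right.mul_right e
    rwa [inv_mul_cancel_left] at this
  · exact fun e => hJ.mul_right e

theorem mem_fix' {g : G} : g ∈ h.fixU t ↔ g ∈ centralizer ({h.J, t} : Set G) ∧ Odd (orderOf g) := by
  rw [h.mem_fix ht htA, h.mem_U, h.mem_cent ht htA]
  tauto

/-- The elements of the centraliser of the four-group centralise its odd part. -/
theorem cent_comm {g w : G} (hg : g ∈ centralizer ({h.J, t} : Set G)) (hw : w ∈ h.fixU t) :
    Commute g w := by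
  set CV := centralizer ({h.J, t} : Set G) with hCV
  set K := CV ⊓ centralizer (h.fixU t : Set G) with hK
  have hV : h.dih.four ht htA ≤ K := fun a ha => by
    have haP : a ∈ (h.P : Subgroup G) := h.dih.four_le ht htA ha
    have hat : Commute a t := by
      rcases (h.dih.mem_four ht htA).1 ha with rfl | rfl | rfl | rfl
      · exact Commute.one_left _
      · exact (h.t_J ht htA).symm
      · exact Commute.refl _
      · exact (h.t_J ht htA).symm.mul_left (Commute.refl _)
    refine ⟨(h.mem_cent ht htA).2 ⟨h.dih.dz_comm haP, hat⟩, mem_centralizer_iff.2 fun b hb => ?_⟩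
    obtain ⟨hbU, hbt⟩ := (h.mem_fix ht htA).1 hb
    have hbJ := (h.mem_U.1 hbU).1
    rcases (h.dih.mem_four ht htA).1 ha with rfl | rfl | rfl | rfl
    · simp
    · exact hbJ.eq
    · exact hbt.eq
    · exact (hbJ.mul_right hbt).eq
  have hW : h.fixU t ≤ K := fun a ha => ⟨((h.mem_fix' ht htA).1 ha).1,
    mem_centralizer_iff.2 fun b hb =>
      h.U_comm ((h.mem_fix ht htA).1 hb).1 ((h.mem_fix ht htA).1 ha).1⟩
  have hd : 4 * Nat.card (h.fixU t) ∣ Nat.card K := by
    refine Nat.Coprime.mul_dvd_of_dvd_of_dvd ?_ ((h.dih.isKleinFour_four ht htA).card_four ▸ card_dvd_of_le hV)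
      (card_dvd_of_le hW)
    exact ((Nat.coprime_two_right.2 (h.fix_odd ht htA)).pow_right 2).symm
  have hKC : K = CV := Subgroup.eq_of_le_of_card_ge inf_le_left
    (by rw [hCV, h.card_cent ht htA]; exact Nat.le_of_dvd Nat.card_pos hd)
  exact ((mem_centralizer_iff.1 ((hKC.symm ▸ hg : g ∈ K).2)) w hw).symm

/-- An element cycling the involutions of the four-group and centralising its odd part. -/
theorem exists_cycle : ∃ x : G, x * h.J * x⁻¹ = h.J * t ∧ x * (h.J * t) * x⁻¹ = t ∧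
    x * t * x⁻¹ = h.J ∧ ∀ w ∈ h.fixU t, Commute x w := by
  haveI : Fact (Nat.Prime 2) := ⟨Nat.prime_two⟩
  set W := h.fixU t with hW
  set V := h.dih.four ht htA with hV
  have hJt2 : orderOf t = 2 := h.t_two ht htA
  -- a Sylow subgroup of `C(t)` containing `V`
  set Ct := centralizer ({t} : Set G) with hCt
  have hVC : V ≤ Ct := fun a ha => mem_centralizer_singleton_iff.2 (by
    rcases (h.dih.mem_four ht htA).1 ha with rfl | rfl | rfl | rfl
    · simp
    · exact (h.t_J ht htA).symm.eq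
    · rfl
    · exact ((h.t_J ht htA).symm.mul_left (Commute.refl _)).eq)
  obtain ⟨Q, hQ⟩ := (IsPGroup.of_card (p := 2) (n := 2) (G := V) (by
      rw [(h.dih.isKleinFour_four ht htA).card_four]; rfl) : IsPGroup 2 V).comap_of_injective
        Ct.subtype (subtype_injective _) |>.exists_le_sylow
  set Q' := (Q : Subgroup Ct).map Ct.subtype with hQ'
  have hQ8 : Nat.card Q' = 8 := by
    obtain ⟨d, hd⟩ := isConj_iff.1 (h.isConj_J hJt2)
    have hc : Nat.card Ct = 8 * Nat.card h.U := by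
      rw [hCt, ← hd, card_cent_conj]; exact h.card_CJ
    rw [hQ', card_map_of_injective (subtype_injective _), Q.card_eq_multiplicity, hc,
      Nat.factorization_mul (by norm_num) Nat.card_pos.ne', show (8 : ℕ) = 2 ^ 3 by norm_num,
      Nat.prime_two.factorization_pow]
    simp [-Nat.card_eq_fintype_card, Nat.factorization_eq_zero_of_not_dvd h.U_odd.not_two_dvd_nat]
  have hVQ : V ≤ Q' := fun a ha => ⟨⟨a, hVC ha⟩, hQ ha, rfl⟩
  have hQt : ∀ q ∈ Q', Commute q t := by
    rintro _ ⟨q, -, rfl⟩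
    exact mem_centralizer_singleton_iff.1 q.2
  obtain ⟨e, heQ, heJ⟩ : ∃ e ∈ Q', ¬ Commute e h.J := by
    by_contra hno
    push Not at hno
    have hle : Q' ≤ centralizer ({h.J, t} : Set G) :=
      fun q hq => (h.mem_cent ht htA).2 ⟨hno q hq, hQt q hq⟩
    have := card_dvd_of_le hle
    rw [hQ8, h.card_cent ht htA] at this
    obtain ⟨j, hj⟩ := h.fix_odd ht htA
    omega
  have hidx : (V.subgroupOf Q').index = 2 := by
    have h1 := (V.subgroupOf Q').card_mul_index
    rw [Nat.card_congr (subgroupOfEquivOfLe hVQ).toEquiv, (h.dih.isKleinFour_four ht htA).card_four,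
      hQ8] at h1
    omega
  have heV : e * h.J * e⁻¹ ∈ V := mem_subgroupOf.1
    ((normal_of_index_eq_two hidx).conj_mem ⟨h.J, hVQ ((h.dih.mem_four ht htA).2 (Or.inr (Or.inl rfl)))⟩
      (mem_subgroupOf.2 ((h.dih.mem_four ht htA).2 (Or.inr (Or.inl rfl)))) ⟨e, heQ⟩)
  have het : e * t * e⁻¹ = t := by rw [(hQt e heQ).eq, mul_inv_cancel_right]
  have heJt : e * h.J * e⁻¹ = h.J * t := by
    rcases (h.dih.mem_four ht htA).1 heV with e' | e' | e' | e'
    · exact absurd (conj_eq_one_iff.1 e') h.J_ne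
    · exact absurd (mul_inv_eq_iff_eq_mul.1 e') heJ
    · exact absurd (show h.J = t from mul_left_cancel (mul_right_cancel (e'.trans het.symm)))
        fun e'' => htA (e'' ▸ h.dih.dz_mem_zpowers)
    · exact e'
  have hJt' := h.t_J ht htA
  have heJt' : e * (h.J * t) * e⁻¹ = h.J := by
    calc e * (h.J * t) * e⁻¹ = (e * h.J * e⁻¹) * (e * t * e⁻¹) := by group
      _ = h.J := by rw [heJt, het, mul_assoc, h.dih.invol t ht htA, mul_one]
  have hyJt : h.y * (h.J * t) * h.y⁻¹ = t := by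
    calc h.y * (h.J * t) * h.y⁻¹ = (h.y * h.J * h.y⁻¹) * (h.y * t * h.y⁻¹) := by group
      _ = t := by
        rw [h.y_conj_J ht htA, h.y_conj ht htA, ← mul_assoc, H65.mul_self_of_two h.J_two, one_mul]
  set x := e * h.y with hx
  have hxJ : x * h.J * x⁻¹ = h.J * t := by
    calc x * h.J * x⁻¹ = e * (h.y * h.J * h.y⁻¹) * e⁻¹ := by rw [hx]; group
      _ = _ := by rw [h.y_conj_J ht htA, heJt]
  have hxt : x * t * x⁻¹ = h.J := by
    calc x * t * x⁻¹ = e * (h.y * t * h.y⁻¹) * e⁻¹ := by rw [hx]; group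
      _ = _ := by rw [h.y_conj ht htA, heJt']
  have hxJt : x * (h.J * t) * x⁻¹ = t := by
    calc x * (h.J * t) * x⁻¹ = e * (h.y * (h.J * t) * h.y⁻¹) * e⁻¹ := by rw [hx]; group
      _ = _ := by rw [hyJt, het]
  refine ⟨x, hxJ, hxJt, hxt, ?_⟩
  -- `x` and its inverse map `W` into itself
  have hcomm : ∀ {g a b : G}, Commute a b → Commute (g * a * g⁻¹) (g * b * g⁻¹) := fun {g a b} hc =>
    hc.map (MulAut.conj g).toMonoidHom
  have hWmap : ∀ w ∈ W, x * w * x⁻¹ ∈ W ∧ x⁻¹ * w * x ∈ W := by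
    intro w hw
    obtain ⟨hwC, hwo⟩ := (h.mem_fix' ht htA).1 hw
    obtain ⟨hwJ, hwt⟩ := (h.mem_cent ht htA).1 hwC
    refine ⟨(h.mem_fix' ht htA).2 ⟨(h.mem_cent ht htA).2 ?_, ?_⟩,
      (h.mem_fix' ht htA).2 ⟨(h.mem_cent ht htA).2 ?_, ?_⟩⟩
    · have e1 := hcomm (g := x) hwt
      rw [hxt] at e1
      have e2 := hcomm (g := x) (hwJ.mul_right hwt)
      rw [hxJt] at e2
      exact ⟨e1, e2⟩
    · rw [← MulAut.conj_apply, MulEquiv.orderOf_eq]; exact hwo
    · have i1 : x⁻¹ * h.J * x = t := by rw [← hxt]; group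
      have i2 : x⁻¹ * t * x = h.J * t := by (conv_lhs => rw [← hxJt]); group
      have e1 := hcomm (g := x⁻¹) hwJ
      rw [inv_inv, i1] at e1
      have e2 := hcomm (g := x⁻¹) hwt
      rw [inv_inv, i2] at e2
      refine ⟨?_, e1⟩
      have := e2.mul_right e1
      rw [show h.J * t * t = h.J from by rw [mul_assoc, h.dih.invol t ht htA, mul_one]] at this
      exact this
    · rw [show x⁻¹ * w * x = MulAut.conj x⁻¹ w by simp, MulEquiv.orderOf_eq]; exact hwo
  have hyinv : ∀ w ∈ W, h.y * w * h.y⁻¹ = w⁻¹ := fun w hw => h.y_inv ((h.mem_fix ht htA).1 hw).1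
  -- conjugates of `y` by powers of `x` invert `W`
  set y2 := x * (x * h.y * x⁻¹) * x⁻¹ with hy2
  have hy2inv : ∀ w ∈ W, y2 * w * y2⁻¹ = w⁻¹ := by
    intro w hw
    have h1 := (hWmap _ (hWmap w hw).2).2
    calc y2 * w * y2⁻¹ = x * (x * (h.y * (x⁻¹ * (x⁻¹ * w * x) * x) * h.y⁻¹) * x⁻¹) * x⁻¹ := by
          rw [hy2]; simp only [mul_inv_rev, inv_inv, mul_assoc]
      _ = w⁻¹ := by rw [hyinv _ h1]; group
  have hy2t : y2 * t * y2⁻¹ = t := by
    calc y2 * t * y2⁻¹ = x * (x * (h.y * (x⁻¹ * (x⁻¹ * t * x) * x) * h.y⁻¹) * x⁻¹) * x⁻¹ := by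
          rw [hy2]; simp only [mul_inv_rev, inv_inv, mul_assoc]
      _ = t := by
        rw [show x⁻¹ * t * x = h.J * t by (conv_lhs => rw [← hxJt]); group,
          show x⁻¹ * (h.J * t) * x = h.J by (conv_lhs => rw [← hxJ]); group,
          h.y_conj_J ht htA, hxJ, hxJt]
  have hy2J : y2 * h.J * y2⁻¹ = h.J * t := by
    calc y2 * h.J * y2⁻¹ = x * (x * (h.y * (x⁻¹ * (x⁻¹ * h.J * x) * x) * h.y⁻¹) * x⁻¹) * x⁻¹ := by
          rw [hy2]; simp only [mul_inv_rev, inv_inv, mul_assoc]
      _ = h.J * t := by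
        rw [show x⁻¹ * h.J * x = t by (conv_lhs => rw [← hxt]); group,
          show x⁻¹ * t * x = h.J * t by (conv_lhs => rw [← hxJt]); group,
          hyJt, hxt, hxJ]
  have hin : y2⁻¹ * e ∈ centralizer ({h.J, t} : Set G) := by
    refine (h.mem_cent ht htA).2 ⟨?_, ?_⟩
    · refine mul_inv_eq_iff_eq_mul.1 ?_
      calc y2⁻¹ * e * h.J * (y2⁻¹ * e)⁻¹ = y2⁻¹ * (e * h.J * e⁻¹) * y2 := by group
        _ = h.J := by rw [heJt, ← hy2J]; group
    · refine mul_inv_eq_iff_eq_mul.1 ?_
      calc y2⁻¹ * e * t * (y2⁻¹ * e)⁻¹ = y2⁻¹ * (e * t * e⁻¹) * y2 := by group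
        _ = t := by rw [het]; (conv_lhs => rw [← hy2t]); group
  intro w hw
  refine mul_inv_eq_iff_eq_mul.1 ?_
  have hwinv : w⁻¹ ∈ W := inv_mem hw
  calc x * w * x⁻¹ = y2 * (y2⁻¹ * e * (h.y * w * h.y⁻¹) * (y2⁻¹ * e)⁻¹) * y2⁻¹ := by rw [hx]; group
    _ = y2 * w⁻¹ * y2⁻¹ := by
      rw [hyinv w hw, (h.cent_comm ht htA hin hwinv).eq, mul_inv_cancel_right]
    _ = w := by rw [hy2inv _ hwinv, inv_inv]

theorem big_subgroup {v : G} (hv : v ∈ h.fixU t) (hv1 : v ≠ 1) :
    ∃ n : ℕ, Nat.card G ∣ n.factorial ∧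
      24 * Nat.card (h.fixU t) * Nat.card (h.fixU (h.y * t)) ^ 3 * n ≤ Nat.card G := by
  haveI : Fact (Nat.Prime 2) := ⟨Nat.prime_two⟩
  obtain ⟨hvU, hvt⟩ := (h.mem_fix ht htA).1 hv
  have hvJ := (h.mem_U.1 hvU).1
  have hvodd := (h.mem_U.1 hvU).2
  obtain ⟨x, hxJ, hxJt, hxt, hxW⟩ := h.exists_cycle ht htA
  set H := centralizer ({v} : Set G) with hH
  set V := h.dih.four ht htA with hVdef
  have hV4 := (h.dih.isKleinFour_four ht htA).card_four
  have hVH : V ≤ H := fun a ha => mem_centralizer_singleton_iff.2 (by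
    rcases (h.dih.mem_four ht htA).1 ha with rfl | rfl | rfl | rfl
    · simp
    · exact hvJ.symm.eq
    · exact hvt.symm.eq
    · exact (hvJ.symm.mul_left hvt.symm).eq)
  have hxH : x ∈ H := mem_centralizer_singleton_iff.2 (hxW v hv).eq
  have hyv := h.y_inv hvU
  have hyH : h.y ∉ H := fun hy => by
    rw [show h.y * v * h.y⁻¹ = v by rw [mem_centralizer_singleton_iff.1 hy, mul_inv_cancel_right]] at hyv
    have h2 : v ^ 2 = 1 := by rw [pow_two]; nth_rewrite 2 [hyv]; exact mul_inv_cancel v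
    have := orderOf_dvd_of_pow_eq_one h2
    rcases (Nat.dvd_prime Nat.prime_two).1 this with e | e
    · exact hv1 (orderOf_eq_one_iff.1 e)
    · rw [e] at hvodd; exact absurd hvodd (by decide)
  have hUH : h.U ≤ H ⊓ h.CJ := fun a ha =>
    ⟨mem_centralizer_singleton_iff.2 (h.U_comm ha hvU), h.U_le ha⟩
  have hu8 := h.card_CJ
  -- the centraliser of `J` in `H`
  have hC4 : Nat.card ↥(H ⊓ h.CJ) = 4 * Nat.card h.U := by
    have hd : 4 * Nat.card h.U ∣ Nat.card ↥(H ⊓ h.CJ) :=
      Nat.Coprime.mul_dvd_of_dvd_of_dvd ((Nat.coprime_two_right.2 h.U_odd).pow_right 2).symm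
        (hV4 ▸ card_dvd_of_le (le_inf hVH fun a ha => h.P_le (h.dih.four_le ht htA ha)))
        (card_dvd_of_le hUH)
    have hlt : Nat.card ↥(H ⊓ h.CJ) < Nat.card h.CJ := by
      rcases lt_or_ge (Nat.card ↥(H ⊓ h.CJ)) (Nat.card h.CJ) with hl | hg
      · exact hl
      · have hy' : h.y ∈ H ⊓ h.CJ := by
          rw [Subgroup.eq_of_le_of_card_ge inf_le_right hg]; exact h.y_mem
        exact absurd hy'.1 hyH
    obtain ⟨k, hk⟩ := hd
    rw [hk, hu8] at hlt
    have : k ≠ 0 := fun e => by rw [e, mul_zero] at hk; exact Nat.card_pos.ne' hk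
    have : k < 2 := by
      by_contra hk2
      push Not at hk2
      nlinarith
    rw [hk, show k = 1 by omega, mul_one]
  -- the Sylow 2-subgroup of `H`
  have hVp : IsPGroup 2 (V.subgroupOf H) := IsPGroup.of_card (n := 2)
    (by rw [Nat.card_congr (subgroupOfEquivOfLe hVH).toEquiv, hV4]; rfl)
  obtain ⟨PH, hPH⟩ := hVp.exists_le_sylow
  have hP4 : Nat.card (PH : Subgroup H) = 4 := by
    obtain ⟨j, hj⟩ := IsPGroup.iff_card.1 PH.2
    have h4le := card_dvd_of_le hPH
    rw [Nat.card_congr (subgroupOfEquivOfLe hVH).toEquiv, hV4, hj] at h4le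
    have hj2 : 2 ≤ j := (Nat.pow_dvd_pow_iff_le_right one_lt_two).1 h4le
    rcases hj2.eq_or_lt with e | hlt
    · rw [hj, ← e]; rfl
    exfalso
    obtain ⟨T, hT, hVT⟩ := Sylow.exists_subgroup_card_pow_prime_le (G := (PH : Subgroup H)) 2
      (show 2 ^ 3 ∣ Nat.card (PH : Subgroup H) by rw [hj]; exact Nat.pow_dvd_pow 2 hlt)
      ((V.subgroupOf H).subgroupOf PH)
      (show Nat.card _ = 2 ^ 2 by
        rw [Nat.card_congr (subgroupOfEquivOfLe hPH).toEquiv,
          Nat.card_congr (subgroupOfEquivOfLe hVH).toEquiv, hV4]; rfl)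
      (by norm_num)
    set T' := (T.map (PH : Subgroup H).subtype).map H.subtype with hT'
    have hT8 : Nat.card T' = 8 := by
      rw [hT', card_map_of_injective (subtype_injective _), card_map_of_injective (subtype_injective _), hT]
      norm_num
    have hVT' : V ≤ T' := fun a ha =>
      ⟨⟨a, hVH ha⟩, ⟨⟨⟨a, hVH ha⟩, hPH ha⟩, hVT ha, rfl⟩, rfl⟩
    have hTH : T' ≤ H := map_subtype_le _
    -- a central involution
    have hTp : IsPGroup 2 T' := IsPGroup.of_card (n := 3) (by rw [hT8]; rfl)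
    haveI : Nontrivial T' := Finite.one_lt_card_iff_nontrivial.1 (by rw [hT8]; norm_num)
    haveI := hTp.center_nontrivial
    obtain ⟨z, hz⟩ := exists_prime_orderOf_dvd_card' (G := center T') 2 (by
      obtain ⟨i, hi, hc⟩ := (Nat.dvd_prime_pow Nat.prime_two).1
        (show Nat.card (center T') ∣ 2 ^ 3 by
          rw [show (2 : ℕ) ^ 3 = Nat.card T' by rw [hT8]; rfl]; exact card_subgroup_dvd_card _)
      rcases i with _ | i
      · rw [pow_zero] at hc
        exact absurd hc Finite.one_lt_card.ne'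
      · rw [hc]; exact dvd_pow_self 2 (Nat.succ_ne_zero i))
    set z' : G := ((z : T') : G) with hz'
    have hzord : orderOf z' = 2 := by rw [hz', Subgroup.orderOf_coe, Subgroup.orderOf_coe, hz]
    have hzc : ∀ a ∈ T', Commute a z' := fun a ha =>
      congrArg Subtype.val (mem_center_iff.1 z.2 ⟨a, ha⟩)
    have hzJ : Commute z' h.J := (hzc _ (hVT' ((h.dih.mem_four ht htA).2 (Or.inr (Or.inl rfl))))).symm
    have hzt : Commute z' t := (hzc _ (hVT' ((h.dih.mem_four ht htA).2 (Or.inr (Or.inr (Or.inl rfl)))))).symm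
    have hzV : z' ∈ V := by
      -- the centraliser of `V` has only the involutions of `V`
      set K := centralizer ({h.J, t} : Set G) with hKdef
      have hVK : V ≤ K := fun a ha => (h.mem_cent ht htA).2
        ⟨h.dih.dz_comm (h.dih.four_le ht htA ha), by
          rcases (h.dih.mem_four ht htA).1 ha with rfl | rfl | rfl | rfl
          · exact Commute.one_left _
          · exact (h.t_J ht htA).symm
          · exact Commute.refl _
          · exact (h.t_J ht htA).symm.mul_left (Commute.refl _)⟩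
      haveI : (V.subgroupOf K).Normal := ⟨fun a ha g => by
        have e : (g : G) * (a : G) * (g : G)⁻¹ = (a : G) := by
          have hg := (h.mem_cent ht htA).1 g.2
          have hga : Commute (g : G) (a : G) := by
            rcases (h.dih.mem_four ht htA).1 (mem_subgroupOf.1 ha) with e | e | e | e <;> rw [e]
            · exact Commute.one_right _
            · exact hg.1
            · exact hg.2
            · exact hg.1.mul_right hg.2
          rw [hga.eq, mul_inv_cancel_right]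
        rw [show g * a * g⁻¹ = a from Subtype.ext e]
        exact ha⟩
      have hi : (V.subgroupOf K).index = Nat.card (h.fixU t) := by
        have h1 := (V.subgroupOf K).card_mul_index
        rw [Nat.card_congr (subgroupOfEquivOfLe hVK).toEquiv, hV4, h.card_cent ht htA] at h1
        exact Nat.eq_of_mul_eq_mul_left (by norm_num) h1
      have hzK : z' ∈ K := (h.mem_cent ht htA).2 ⟨hzJ, hzt⟩
      have h1 : orderOf (QuotientGroup.mk' (V.subgroupOf K) ⟨z', hzK⟩) = 1 := by
        refine Nat.eq_one_of_dvd_coprimes (Nat.coprime_two_left.2 (h.fix_odd ht htA)) ?_ ?_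
        · exact (orderOf_map_dvd _ _).trans (by rw [Subgroup.orderOf_mk, hzord])
        · rw [← hi, index_eq_card]; exact orderOf_dvd_natCard _
      have h2 := orderOf_eq_one_iff.1 h1
      rw [QuotientGroup.mk'_apply, QuotientGroup.eq_one_iff] at h2
      exact mem_subgroupOf.1 h2
    -- move `z'` to `J`
    obtain ⟨k, hkH, hk⟩ : ∃ k ∈ H, k * z' * k⁻¹ = h.J := by
      rcases (h.dih.mem_four ht htA).1 hzV with e | e | e | e
      · rw [e, orderOf_one] at hzord; omega
      · exact ⟨1, one_mem _, by rw [e]; simp [J]⟩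
      · exact ⟨x, hxH, by rw [e, hxt]⟩
      · refine ⟨x * x, mul_mem hxH hxH, ?_⟩
        rw [e]
        calc x * x * (h.J * t) * (x * x)⁻¹ = x * (x * (h.J * t) * x⁻¹) * x⁻¹ := by group
          _ = h.J := by rw [hxJt, hxt]
    have hle : T'.map (MulAut.conj k).toMonoidHom ≤ H ⊓ h.CJ := by
      rintro _ ⟨a, ha, rfl⟩
      refine ⟨H.mul_mem (H.mul_mem hkH (hTH ha)) (H.inv_mem hkH), mem_centralizer_singleton_iff.2 ?_⟩
      show k * a * k⁻¹ * h.J = h.J * (k * a * k⁻¹)
      rw [← hk]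
      calc k * a * k⁻¹ * (k * z' * k⁻¹) = k * (a * z') * k⁻¹ := by group
        _ = k * z' * k⁻¹ * (k * a * k⁻¹) := by rw [(hzc a ha).eq]; group
    have := card_dvd_of_le hle
    rw [card_map_of_injective (MulAut.conj k).injective, hT8, hC4] at this
    obtain ⟨i, hi⟩ := h.U_odd
    omega
  have hPV : (PH : Subgroup H) = V.subgroupOf H :=
    (Subgroup.eq_of_le_of_card_ge hPH (by
      rw [hP4, Nat.card_congr (subgroupOfEquivOfLe hVH).toEquiv, hV4])).symm
  -- one class of involutions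
  let JH : H := ⟨h.J, hVH ((h.dih.mem_four ht htA).2 (Or.inr (Or.inl rfl)))⟩
  have hconjJ : ∀ s : H, orderOf s = 2 → IsConj JH s := by
    intro s hs
    obtain ⟨R, hR⟩ := (IsPGroup.of_card (n := 1) (p := 2) (by rw [Nat.card_zpowers, hs, pow_one]) :
      IsPGroup 2 (zpowers s)).exists_le_sylow
    obtain ⟨g, hg⟩ := MulAction.exists_smul_eq H R PH
    have hmem : g * s * g⁻¹ ∈ V.subgroupOf H := by
      rw [← hPV, ← hg, Sylow.coe_subgroup_smul]
      exact smul_mem_pointwise_smul s (MulAut.conj g) _ (hR (mem_zpowers s))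
    have hgs : IsConj (g * s * g⁻¹) s := (isConj_iff.2 ⟨g, rfl⟩).symm
    refine IsConj.trans ?_ hgs
    have hne : g * s * g⁻¹ ≠ 1 := fun e => by rw [conj_eq_one_iff.1 e, orderOf_one] at hs; omega
    rcases (h.dih.mem_four ht htA).1 (mem_subgroupOf.1 hmem) with e | e | e | e
    · exact absurd (Subtype.ext e) hne
    · rw [show g * s * g⁻¹ = JH from Subtype.ext e]
    · refine isConj_iff.2 ⟨⟨x, hxH⟩⁻¹, Subtype.ext ?_⟩
      show x⁻¹ * h.J * x⁻¹⁻¹ = ((g * s * g⁻¹ : H) : G)
      rw [e]; (conv_lhs => rw [← hxt]); group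
    · refine isConj_iff.2 ⟨⟨x, hxH⟩, Subtype.ext ?_⟩
      show x * h.J * x⁻¹ = ((g * s * g⁻¹ : H) : G)
      rw [e, hxJ]
      rfl
  have hone : ∀ s r : H, orderOf s = 2 → orderOf r = 2 → IsConj s r :=
    fun s r hs hr => (hconjJ s hs).symm.trans (hconjJ r hr)
  have hexp : ∀ a ∈ (PH : Subgroup H), a * a = 1 := fun a ha => by
    rw [hPV] at ha
    haveI := h.dih.isKleinFour_four ht htA
    exact Subtype.ext (congrArg (fun q : V => (q : G)) (IsKleinFour.mul_self (⟨(a : G), mem_subgroupOf.1 ha⟩ : V)))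
  have hJP : JH ∈ (PH : Subgroup H) := hPV ▸ mem_subgroupOf.2 ((h.dih.mem_four ht htA).2 (Or.inr (Or.inl rfl)))
  have hbound := klein_order_bound PH hP4 hexp hone hJP
    (show orderOf JH = 2 by rw [← Subgroup.orderOf_coe]; exact h.J_two)
  have hcJ : Nat.card ↥(centralizer ({JH} : Set H)) = 4 * Nat.card h.U := by
    rw [← hC4]
    refine Nat.card_congr
      { toFun := fun a => ⟨((a : H) : G), (a : H).2, mem_centralizer_singleton_iff.2
          (congrArg Subtype.val (mem_centralizer_singleton_iff.1 a.2))⟩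
        invFun := fun a => ⟨⟨a, a.2.1⟩, mem_centralizer_singleton_iff.2
          (Subtype.ext (mem_centralizer_singleton_iff.1 a.2.2))⟩
        left_inv := fun a => rfl
        right_inv := fun a => rfl }
  have hcP : Nat.card ↥(centralizer ((PH : Subgroup H) : Set H)) = 4 * Nat.card (h.fixU t) := by
    rw [← h.card_cent ht htA]
    refine Nat.card_congr
      { toFun := fun a => ⟨((a : H) : G), (h.mem_cent ht htA).2 ?_⟩
        invFun := fun a => ⟨⟨a, mem_centralizer_singleton_iff.2 (h.cent_comm ht htA a.2 hv).eq⟩, ?_⟩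
        left_inv := fun a => rfl
        right_inv := fun a => rfl }
    · have hin : ∀ w, w ∈ V → Commute ((a : H) : G) w := fun w hw => by
        have := mem_centralizer_iff.1 a.2 ⟨w, hVH hw⟩ (hPV ▸ mem_subgroupOf.2 hw)
        exact (congrArg Subtype.val this).symm
      exact ⟨hin _ ((h.dih.mem_four ht htA).2 (Or.inr (Or.inl rfl))),
        hin _ ((h.dih.mem_four ht htA).2 (Or.inr (Or.inr (Or.inl rfl))))⟩
    · refine mem_centralizer_iff.2 fun w hw => Subtype.ext ?_
      have hw' : (w : G) ∈ V := mem_subgroupOf.1 (hPV ▸ hw)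
      obtain ⟨hJc, htc⟩ := (h.mem_cent ht htA).1 a.2
      show (w : G) * (a : G) = (a : G) * (w : G)
      rcases (h.dih.mem_four ht htA).1 hw' with e | e | e | e <;> rw [e]
      · simp
      · exact hJc.eq.symm
      · exact htc.eq.symm
      · exact (hJc.mul_right htc).eq.symm
  rw [hcJ, hcP] at hbound
  set p := Nat.card (h.fixU t) with hp
  set m := Nat.card (h.fixU (h.y * t)) with hm
  rw [h.card_U ht htA, ← hp, ← hm] at hbound
  have hH12 : 12 * p * m ^ 3 ≤ Nat.card H := by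
    refine Nat.le_of_mul_le_mul_left (?_ : 16 * p ^ 2 * (12 * p * m ^ 3) ≤ 16 * p ^ 2 * Nat.card H) (Nat.mul_pos (show 0 < 16 by norm_num) (pow_pos (h.fix_odd ht htA).pos 2))
    calc 16 * p ^ 2 * (12 * p * m ^ 3) = 3 * (4 * (p * m)) ^ 3 := by ring
      _ ≤ Nat.card H * (4 * p) ^ 2 := hbound
      _ = 16 * p ^ 2 * Nat.card H := by ring
  -- the extension by `y`
  have hnorm : ∀ {a : G}, a ∈ H → h.y * a * h.y⁻¹ ∈ H ∧ h.y⁻¹ * a * h.y ∈ H := fun {a} ha => by
    have hav : Commute a v := mem_centralizer_singleton_iff.1 ha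
    have hyv' : h.y⁻¹ * v * h.y = v⁻¹ := by
      calc h.y⁻¹ * v * h.y = (h.y⁻¹ * (h.y * v * h.y⁻¹) * h.y)⁻¹ := by rw [hyv]; group
        _ = v⁻¹ := by group
    constructor
    · refine mem_centralizer_singleton_iff.2 ?_
      have := (hav.map (MulAut.conj h.y).toMonoidHom).inv_right
      simp only [MulEquiv.coe_toMonoidHom, MulAut.conj_apply, hyv, inv_inv] at this
      exact this.eq
    · refine mem_centralizer_singleton_iff.2 ?_
      have := (hav.map (MulAut.conj h.y⁻¹).toMonoidHom).inv_right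
      simp only [MulEquiv.coe_toMonoidHom, MulAut.conj_apply, inv_inv, hyv'] at this
      exact this.eq
  have hyy : h.y * h.y ∈ H := by
    rw [← pow_two, ← h.J_eq]; exact mem_centralizer_singleton_iff.2 hvJ.symm.eq
  let K : Subgroup G :=
    { carrier := {a | a ∈ H ∨ a * h.y⁻¹ ∈ H}
      one_mem' := Or.inl (one_mem _)
      mul_mem' := by
        rintro a b (ha | ha) (hb | hb)
        · exact Or.inl (mul_mem ha hb)
        · exact Or.inr (by rw [mul_assoc]; exact mul_mem ha hb)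
        · refine Or.inr ?_
          rw [show a * b * h.y⁻¹ = a * h.y⁻¹ * (h.y * b * h.y⁻¹) by group]
          exact mul_mem ha (hnorm hb).1
        · refine Or.inl ?_
          rw [show a * b = a * h.y⁻¹ * (h.y * (b * h.y⁻¹) * h.y⁻¹) * (h.y * h.y) by group]
          exact mul_mem (mul_mem ha (hnorm hb).1) hyy
      inv_mem' := by
        rintro a (ha | ha)
        · exact Or.inl (inv_mem ha)
        · refine Or.inr ?_
          rw [show a⁻¹ * h.y⁻¹ = (h.y⁻¹ * (a * h.y⁻¹)⁻¹ * h.y) * (h.y * h.y)⁻¹ by group]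
          exact mul_mem (hnorm (inv_mem ha)).2 (inv_mem hyy) }
  have hHK : H ≤ K := fun a ha => Or.inl ha
  have hyK : h.y ∈ K := Or.inr (by simp)
  have hrel : (H.subgroupOf K).index = 2 := by
    refine index_eq_two_iff.2 ⟨⟨h.y, hyK⟩, fun b => ?_⟩
    have hiff : ∀ c : G, c ∈ H → c * h.y ∉ H := fun c hc hcy =>
      hyH (by simpa using mul_mem (inv_mem hc) hcy)
    rcases (show (b : G) ∈ H ∨ (b : G) * h.y⁻¹ ∈ H from b.2) with hb | hb
    · exact Or.inr ⟨mem_subgroupOf.2 hb, fun hh => hiff _ hb (mem_subgroupOf.1 hh)⟩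
    · refine Or.inl ⟨mem_subgroupOf.2 ?_, fun hh => hiff _ hb (by
        rw [inv_mul_cancel_right]; exact mem_subgroupOf.1 hh)⟩
      show (b : G) * h.y ∈ H
      rw [show (b : G) * h.y = (b : G) * h.y⁻¹ * (h.y * h.y) by group]
      exact mul_mem hb hyy
  have hK2 : Nat.card K = 2 * Nat.card H := by
    rw [← (H.subgroupOf K).card_mul_index, hrel, Nat.card_congr (subgroupOfEquivOfLe hHK).toEquiv, mul_comm]
  haveI := h.simple
  have hKtop : K ≠ ⊤ := fun e => by
    have := H.card_mul_index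
    rw [← Subgroup.card_top (G := G), ← e, hK2, mul_comm 2] at this
    exact h.index_ne_two H (Nat.eq_of_mul_eq_mul_left Nat.card_pos this)
  refine ⟨K.index, ?_, ?_⟩
  · have hcore : K.normalCore = ⊥ := by
      rcases (normalCore_normal K).eq_bot_or_eq_top with e | e
      · exact e
      · exact absurd (top_le_iff.1 (e ▸ normalCore_le K)) hKtop
    let f : G →* Equiv.Perm (G ⧸ K) := MulAction.toPermHom G (G ⧸ K)
    have hf : Function.Injective f := by
      rw [← MonoidHom.ker_eq_bot_iff, ← normalCore_eq_ker, hcore]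
    have := Subgroup.card_dvd_of_injective f hf
    rwa [Nat.card_perm, ← index_eq_card] at this
  · rw [← K.card_mul_index, hK2]
    exact Nat.mul_le_mul_right _ (by linarith)

end Conf

end H6.SmallCent
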