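import Cfsg.Agent.H6.SmallCent.Reduce
import Cfsg.Agent.H6.SmallCent.Chars
import Cfsg.Agent.H6.SmallCent.Klein
import Cfsg.Agent.H78.DihedralEightCentralizer
import Cfsg.Agent.H59.SelfThree.Final
import Cfsg.Agent.S0984

/-!
Simple groups with an element whose centraliser has order at most four.
-/

set_option autoImplicit false
set_option linter.style.haveILetI false

namespace H6.SmallCent

open Subgroup Cfsg

universe u

/-- The four possible groups. -/
def Outcome (G : Type u) [Group G] : Prop :=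
  Nonempty (G ≃* ↥(alternatingGroup (Fin 5))) ∨ Nonempty (G ≃* ↥(alternatingGroup (Fin 6))) ∨
    Nonempty (G ≃* ↥(alternatingGroup (Fin 7))) ∨
    (∃ (F : Type) (_ : Field F) (_ : Fintype F),
      Fintype.card F = 7 ∧ Nonempty (G ≃* Matrix.ProjectiveSpecialLinearGroup (Fin 2) F))

namespace Conf

variable {G : Type u} [Group G] [Fintype G] (h : Conf G)

theorem order_2520 (hU : Nat.card h.U ≠ 1) : Nat.card G = 2520 := by
  obtain ⟨t, ht, htA⟩ := h.exists_refl
  set t' := h.y * t with ht'def
  have ht' : t' ∈ (h.P : Subgroup G) := h.yt_mem ht htA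
  have htA' : t' ∉ zpowers h.y := h.yt_notin ht htA
  have e1 := h.card_U ht htA
  have e2 := h.card_U ht' htA'
  have hpe : Nat.card (h.fixU (h.y * t')) = Nat.card (h.fixU t) := by
    rw [e1, mul_comm] at e2
    exact (Nat.eq_of_mul_eq_mul_left Nat.card_pos e2).symm
  obtain ⟨A, c, d, hE⟩ := h.exists_eqns ht htA hU
  obtain ⟨A', c', d', hE'⟩ := h.exists_eqns ht' htA' hU
  set p := Nat.card (h.fixU t) with hp
  set m := Nat.card (h.fixU t') with hm
  rw [hpe] at hE'
  have hp1 : 0 < p := Nat.card_pos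
  have hm1 : 0 < m := Nat.card_pos
  by_cases hpo : p = 1
  · refine (hE.p_one hpo ?_).2
    by_contra hlt
    exact hU (by rw [e1, hpo, show m = 1 by omega])
  by_cases hmo : m = 1
  · exact (hE'.p_one hmo (by omega)).2
  exfalso
  have hp3 : 3 ≤ p := by obtain ⟨i, hi⟩ := h.fix_odd ht htA; omega
  have hm3 : 3 ≤ m := by obtain ⟨i, hi⟩ := h.fix_odd ht' htA'; omega
  have hdvd : p * m ∣ Nat.card G := e1 ▸ card_subgroup_dvd_card h.U
  have hne : ∀ (s : G), 3 ≤ Nat.card (h.fixU s) → ∃ v ∈ h.fixU s, v ≠ 1 := fun s hs => by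
    by_contra hno
    push Not at hno
    rw [(eq_bot_iff_forall _).2 hno, card_bot] at hs
    omega
  rcases le_total p m with hle | hle
  · obtain ⟨v, hv, hv1⟩ := hne t hp3
    obtain ⟨n, hn1, hn2⟩ := h.big_subgroup ht htA hv hv1
    exact hE.general hp3 hle hdvd hn1 hn2
  · obtain ⟨v, hv, hv1⟩ := hne t' hm3
    obtain ⟨n, hn1, hn2⟩ := h.big_subgroup ht' htA' hv hv1
    rw [hpe] at hn2
    exact hE'.general hm3 hle (mul_comm p m ▸ hdvd) hn1 hn2

include h in
theorem outcome : Outcome G := by
  haveI := h.simple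
  by_cases hU : Nat.card h.U = 1
  · have hcard : Nat.card h.CJ = Nat.card (h.P : Subgroup G) := by
      rw [h.card_CJ, hU, h.dih.card_eq, h.hy]
    have hCP : (h.P : Subgroup G) = h.CJ := Subgroup.eq_of_le_of_card_ge h.P_le hcard.le
    have hiso : Nonempty (↥(centralizer ({h.J} : Set G)) ≃* DihedralGroup 4) :=
      ⟨((MulEquiv.subgroupCongr hCP).symm).trans h.eP⟩
    have hperm : ∀ n : ℕ, 2 ≤ n → Nonempty (G ≃* Equiv.Perm (Fin n)) → False := by
      rintro n hn ⟨e⟩
      haveI : Nontrivial (Fin n) := Fin.nontrivial_iff_two_le.2 hn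
      refine h.index_ne_two ((alternatingGroup (Fin n)).comap e.toMonoidHom) ?_
      rw [index_comap_of_surjective _ e.surjective, alternatingGroup.index_eq_two]
    rcases H78.D8.dihedral_eight_centralizer h.J_two hiso with h1 | h1 | h1 | h1 | h1
    · exfalso
      rcases (inferInstance : (Cfsg.oddCore G).Normal).eq_bot_or_eq_top with hO | hO
      · rw [hO, sup_bot_eq] at h1
        have hJc : h.J ∈ Subgroup.center G := mem_center_iff.2 fun g =>
          mem_centralizer_singleton_iff.1 (h1 ▸ mem_top g)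
        rw [H70.center_eq_bot_of_simple h.hna, mem_bot] at hJc
        exact h.J_ne hJc
      · haveI : Fact (Nat.Prime 2) := ⟨Nat.prime_two⟩
        have h2 : ¬ 2 ∣ Nat.card (Cfsg.oddCore G) := Nat.prime_two.coprime_iff_not_dvd.1 (H1.card_pPrimeCore_coprime 2 G).symm
        rw [hO, card_top] at h2
        exact h2 (h.J_two ▸ orderOf_dvd_natCard h.J)
    · exact (hperm 4 (by norm_num) h1).elim
    · exact (hperm 5 (by norm_num) h1).elim
    · obtain ⟨e⟩ := h1
      obtain ⟨e'⟩ := H37.PSL2_seven_mulEquiv_PSL3_two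
        (F := ZMod 7) (K := ZMod 2) (ZMod.card 7) (ZMod.card 2)
      have hc : (Subgroup.center (Matrix.SpecialLinearGroup (Fin 3) (ZMod 2))) = ⊥ := by
        rw [← Subgroup.card_eq_one, H37.card_center_SL]; simp
      haveI : Fact (Nat.Prime 7) := ⟨by norm_num⟩
      exact Or.inr (Or.inr (Or.inr ⟨ZMod 7, inferInstance, inferInstance, ZMod.card 7,
        ⟨e.trans ((e'.trans ((QuotientGroup.quotientMulEquivOfEq hc).trans QuotientGroup.quotientBot)).symm)⟩⟩))
    · exact Or.inr (Or.inl h1)
  · exact Or.inr (Or.inr (Or.inl (Cfsg.Agent.S0984.result (h.order_2520 hU))))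

end Conf

theorem main {G : Type u} [Group G] [Finite G] [IsSimpleGroup G] (hG : ¬ IsCyclic G) (w : G)
    (hw : Nat.card ↥(centralizer ({w} : Set G)) ≤ 4) : Outcome G := by
  haveI : Fact (Nat.Prime 2) := ⟨Nat.prime_two⟩
  have hna : ¬ IsMulCommutative G := fun hc => by
    haveI := hc
    letI : CommGroup G := { (inferInstance : Group G) with mul_comm := hc.is_comm.comm }
    haveI := Fintype.ofFinite G
    haveI := Fact.mk (IsSimpleGroup.prime_card (α := G))
    exact hG (isCyclic_of_prime_card rfl)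
  have hw1 : w ≠ 1 := fun e => by
    subst e
    rw [show centralizer ({(1 : G)} : Set G) = ⊤ from eq_top_iff.2 fun g _ =>
      mem_centralizer_singleton_iff.2 (by simp), card_top] at hw
    haveI := Fintype.ofFinite G
    rcases Nat.lt_or_ge (Nat.card G) 4 with h4 | h4
    · have hpos : 0 < Nat.card G := Nat.card_pos
      obtain h1 | h2 | h3 : Nat.card G = 1 ∨ Nat.card G = 2 ∨ Nat.card G = 3 := by omega
      · exact hG (by haveI := (Nat.card_eq_one_iff_unique.1 h1).1; infer_instance)
      · exact hG (isCyclic_of_prime_card h2)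
      · haveI : Fact (Nat.Prime 3) := ⟨Nat.prime_three⟩
        exact hG (isCyclic_of_prime_card h3)
    · have h4' : Nat.card G = 2 ^ 2 := by omega
      exact hna ⟨⟨(IsPGroup.commGroupOfCardEqPrimeSq h4').mul_comm⟩⟩
  have hwC : w ∈ centralizer ({w} : Set G) := mem_centralizer_singleton_iff.2 rfl
  have hdvd : orderOf w ∣ Nat.card ↥(centralizer ({w} : Set G)) := Subgroup.orderOf_dvd_natCard _ hwC
  have hord1 : orderOf w ≠ 1 := fun e => hw1 (orderOf_eq_one_iff.1 e)
  set n := Nat.card ↥(centralizer ({w} : Set G)) with hn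
  have hn0 : 0 < n := Nat.card_pos
  have conf : ∀ y : G, orderOf y = 4 → Nat.card ↥(centralizer ({y} : Set G)) = 4 → Outcome G := by
    intro y hy hyC
    obtain ⟨P, hD, ⟨e⟩⟩ := dihedral_eight hna hy hyC
    letI := Fintype.ofFinite G
    exact (Conf.mk y P hD e hy hyC inferInstance hna).outcome
  obtain h1 | h2 | h3 | h4 : n = 1 ∨ n = 2 ∨ n = 3 ∨ n = 4 := by omega
  · rw [h1] at hdvd
    exact absurd (Nat.dvd_one.1 hdvd) hord1
  · exfalso
    rw [h2] at hdvd
    have hw2 : orderOf w = 2 := ((Nat.dvd_prime Nat.prime_two).1 hdvd).resolve_left hord1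
    obtain ⟨P, hP⟩ := (IsPGroup.of_card (n := 1) (p := 2) (by rw [Nat.card_zpowers, hw2, pow_one]) :
      IsPGroup 2 (zpowers w)).exists_le_sylow
    have hwP : w ∈ (P : Subgroup G) := hP (mem_zpowers w)
    have hCz : centralizer ({w} : Set G) = zpowers w :=
      (Subgroup.eq_of_le_of_card_ge (zpowers_le.2 hwC) (by rw [Nat.card_zpowers, hw2, ← h2])).symm
    have hPle : (P : Subgroup G) ≤ zpowers w := by
      haveI : Nontrivial (P : Subgroup G) :=
        ⟨⟨⟨w, hwP⟩, 1, fun e => hw1 (congrArg Subtype.val e)⟩⟩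
      haveI := (P.2 : IsPGroup 2 (P : Subgroup G)).center_nontrivial
      obtain ⟨c, hc⟩ := exists_ne (1 : center (P : Subgroup G))
      have hcw : ((c : (P : Subgroup G)) : G) ∈ zpowers w := hCz ▸ mem_centralizer_singleton_iff.2
        (congrArg Subtype.val (mem_center_iff.1 c.2 ⟨w, hwP⟩)).symm
      obtain ⟨i, hi⟩ := mem_zpowers_iff.1 hcw
      have hceq : ((c : (P : Subgroup G)) : G) = w := by
        rcases Int.even_or_odd i with ⟨j, rfl⟩ | ⟨j, rfl⟩
        · exfalso
          apply hc
          refine Subtype.ext (Subtype.ext ?_)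
          rw [← hi, ← two_mul, zpow_mul, zpow_two, H65.mul_self_of_two hw2, one_zpow]
          rfl
        · rw [← hi, zpow_add, zpow_mul, zpow_two, H65.mul_self_of_two hw2, one_zpow, one_mul, zpow_one]
      intro g hg
      rw [← hCz, mem_centralizer_singleton_iff, ← hceq]
      exact congrArg Subtype.val (mem_center_iff.1 c.2 ⟨g, hg⟩)
    have hcyc : IsCyclic (P : Subgroup G) := by
      rw [le_antisymm hPle hP]; infer_instance
    obtain ⟨H, hH⟩ := H65.exists_index_two_of_cyclic_sylow
      (even_iff_two_dvd.2 (hw2 ▸ orderOf_dvd_natCard w)) P hcyc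
    exact index_ne_two hna H hH
  · rw [h3] at hdvd
    have hw3 : orderOf w = 3 := ((Nat.dvd_prime Nat.prime_three).1 hdvd).resolve_left hord1
    have hCz : centralizer ({w} : Set G) = zpowers w :=
      (Subgroup.eq_of_le_of_card_ge (zpowers_le.2 hwC) (by rw [Nat.card_zpowers, hw3, ← h3])).symm
    have hX : centralizer ((zpowers w : Subgroup G) : Set G) = zpowers w := by
      refine le_antisymm (fun g hg => hCz ▸ mem_centralizer_singleton_iff.2
        (mem_centralizer_iff.1 hg w (mem_zpowers w)).symm) fun g hg => mem_centralizer_iff.2 fun a ha => ?_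
      obtain ⟨i, rfl⟩ := mem_zpowers_iff.1 hg
      obtain ⟨j, rfl⟩ := mem_zpowers_iff.1 ha
      rw [← zpow_add, ← zpow_add, add_comm]
    have hnil : ∀ (N : Subgroup G), Group.IsNilpotent N → N = ⊤ → False := fun N hN e => by
      subst e
      haveI := hN
      haveI : Group.IsNilpotent G :=
        Group.nilpotent_of_mulEquiv (topEquiv : (⊤ : Subgroup G) ≃* G)
      exact hG inferInstance
    rcases H59.SelfThree.self_centralising (zpowers w) (by rw [Nat.card_zpowers, hw3]) hX with
      ⟨N, hN, hnilN, hcop, hq⟩ | ⟨N, hN, hcomm, hsq, ⟨e⟩⟩ | he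
    · exfalso
      rcases hN.eq_bot_or_eq_top with rfl | hNt
      · rcases hq with hq | ⟨⟨e⟩⟩
        · rw [Nat.card_congr (QuotientGroup.quotientBot (G := G)).toEquiv] at hq
          haveI : Fact (Nat.Prime 3) := ⟨Nat.prime_three⟩
          exact hG (isCyclic_of_prime_card hq)
        · let f : G →* Equiv.Perm (Fin 3) :=
            ((QuotientGroup.quotientBot (G := G)).symm.trans e).toMonoidHom
          refine index_ne_two hna ((alternatingGroup (Fin 3)).comap f) ?_
          rw [index_comap_of_surjective _ ((QuotientGroup.quotientBot (G := G)).symm.trans e).surjective,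
            alternatingGroup.index_eq_two]
      · exact hnil N hnilN hNt
    · rcases hN.eq_bot_or_eq_top with rfl | hNt
      · exact Or.inl ⟨(QuotientGroup.quotientBot (G := G)).symm.trans e⟩
      · exfalso
        subst hNt
        exact hna ⟨⟨fun a b => congrArg Subtype.val
          (hcomm.is_comm.comm (⟨a, mem_top a⟩ : (⊤ : Subgroup G)) ⟨b, mem_top b⟩)⟩⟩
    · haveI : Fact (Nat.Prime 7) := ⟨by norm_num⟩
      exact Or.inr (Or.inr (Or.inr ⟨ZMod 7, inferInstance, inferInstance, ZMod.card 7, he⟩))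
  · rw [h4] at hdvd
    obtain ⟨k, hk2, hk⟩ := (Nat.dvd_prime_pow Nat.prime_two).1 (show orderOf w ∣ 2 ^ 2 from hdvd)
    rcases k with _ | _ | k
    · exact absurd hk hord1
    · rw [pow_one] at hk
      by_cases hsq : ∀ v ∈ centralizer ({w} : Set G), v * v = 1
      · exact Or.inl (klein_case hna hk (hn ▸ h4) hsq)
      · push Not at hsq
        obtain ⟨v, hv, hvv⟩ := hsq
        have hv4 : orderOf v = 4 := by
          have hd : orderOf v ∣ 2 ^ 2 := by
            rw [show (2 : ℕ) ^ 2 = n by rw [h4]; rfl, hn]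
            exact Subgroup.orderOf_dvd_natCard _ hv
          obtain ⟨j, hj2, hj⟩ := (Nat.dvd_prime_pow Nat.prime_two).1 hd
          rcases j with _ | _ | j
          · exact absurd (by rw [orderOf_eq_one_iff.1 hj, one_mul]) hvv
          · rw [pow_one] at hj
            exact absurd (H65.mul_self_of_two hj) hvv
          · rw [hj, show j + 1 + 1 = 2 by omega]; rfl
        have hCw : zpowers v = centralizer ({w} : Set G) :=
          Subgroup.eq_of_le_of_card_ge (zpowers_le.2 hv) (by rw [Nat.card_zpowers, hv4, ← hn, h4])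
        refine conf v hv4 (le_antisymm ?_ ?_)
        · refine le_trans (card_le_of_le fun g hg => ?_) (hn ▸ h4.le)
          obtain ⟨i, hi⟩ := mem_zpowers_iff.1 (hCw.symm ▸ hwC : w ∈ zpowers v)
          rw [mem_centralizer_singleton_iff, ← hi]
          exact ((show Commute g v from mem_centralizer_singleton_iff.1 hg).zpow_right i).eq
        · rw [← hv4, ← Nat.card_zpowers]
          exact card_le_of_le (zpowers_le.2 (mem_centralizer_singleton_iff.2 rfl))
    · exact conf w (by rw [hk, show k + 1 + 1 = 2 by omega]; rfl) (hn ▸ h4)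

end H6.SmallCent
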