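import Cfsg.Agent.H31.Taussky
import Cfsg.Agent.H67.Transfer2
import Cfsg.Agent.H65.CyclicSylow
import Cfsg.Agent.H68.DihedralFusion
import Cfsg.Agent.H70.SelfCentKlein
import Cfsg.Agent.H70.ThreeInvol
import Cfsg.Agent.H70.KleinCentralizerSylow
import Cfsg.Agent.S0992
import Cfsg.Agent.S0494
import Cfsg.Agent.S0204

/-!
Simple groups with an element whose centraliser has order four: either the group is the
alternating group of degree five, or the Sylow 2-subgroups are dihedral of order eight.
-/

set_option autoImplicit false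
set_option linter.style.haveILetI false

namespace H6.SmallCent

open Subgroup

universe u

variable {G : Type u} [Group G] [Finite G] [IsSimpleGroup G]

theorem index_ne_two (hna : ¬ IsMulCommutative G) (H : Subgroup G) : H.index ≠ 2 :=
  H70.index_ne_two_of_simple hna H

/-- An involution with a self-centralising four group as centraliser. -/
theorem klein_case (hna : ¬ IsMulCommutative G) {x : G} (hx : orderOf x = 2)
    (hV : Nat.card (centralizer ({x} : Set G)) = 4)
    (hsq : ∀ v ∈ centralizer ({x} : Set G), v * v = 1) :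
    Nonempty (G ≃* alternatingGroup (Fin 5)) := by
  haveI : Fact (Nat.Prime 2) := ⟨Nat.prime_two⟩
  set V := centralizer ({x} : Set G) with hVdef
  have hxV : x ∈ V := mem_centralizer_singleton_iff.2 rfl
  have hx1 : x ≠ 1 := fun e => by rw [e, orderOf_one] at hx; omega
  haveI hK : IsKleinFour V := by
    refine ⟨hV, ?_⟩
    refine (Nat.dvd_prime Nat.prime_two).1 (Monoid.exponent_dvd_of_forall_pow_eq_one fun v => ?_)
      |>.resolve_left fun h1 => ?_
    · rw [pow_two]; exact Subtype.ext (hsq v v.2)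
    · have := Monoid.exp_eq_one_iff.1 h1
      exact hx1 (congrArg Subtype.val (Subsingleton.elim (⟨x, hxV⟩ : V) 1))
  obtain ⟨P, hVP⟩ := (IsPGroup.of_card (n := 2) (p := 2) (by rw [hV]; rfl) : IsPGroup 2 V).exists_le_sylow
  have hP4 : Nat.card (P : Subgroup G) = 4 := H70.klein_sylow_card hx V hV hK hxV
    (fun R _ hVR hRC => le_antisymm hRC hVR) P hVP
  have hPV : V = (P : Subgroup G) := Subgroup.eq_of_le_of_card_ge hVP (by rw [hV, hP4])
  have h2 : Even (Nat.card G) := even_iff_two_dvd.2 (hx ▸ orderOf_dvd_natCard x)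
  have h8 : ¬ 8 ∣ Nat.card G := fun h8 => by
    have := P.pow_dvd_card_of_pow_dvd_card (n := 3) (by norm_num; exact h8)
    rw [hP4] at this
    norm_num at this
  obtain ⟨-, h3⟩ := Cfsg.Agent.S0992.result hna h2 h8 P
  rw [← hPV] at h3
  have hcom : ∀ a ∈ V, ∀ b ∈ V, a * b = b * a := fun a ha b hb =>
    congrArg Subtype.val (mul_comm_of_exponent_two IsKleinFour.exponent_two (⟨a, ha⟩ : V) ⟨b, hb⟩)
  have hCV : centralizer (V : Set G) = V := by
    refine le_antisymm (fun g hg => ?_) fun g hg => mem_centralizer_iff.2 fun v hv => hcom v hv g hg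
    exact mem_centralizer_singleton_iff.2 (mem_centralizer_iff.1 hg x hxV).symm
  rw [hCV] at h3
  have hnorm : Nat.card (normalizer (V : Set G)) = 12 := by
    have h1 := (V.subgroupOf (normalizer (V : Set G))).card_mul_index
    rw [Nat.card_congr (subgroupOfEquivOfLe (le_normalizer (H := V))).toEquiv, hV] at h1
    rw [← h1]
    rw [relIndex] at h3
    rw [h3]
  -- one class of involutions
  have hone : ∀ u : G, orderOf u = 2 → IsConj x u := by
    refine H70.isConj_of_three hna hx fun a b ha hax hane hb hbx hbne => ?_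
    have haV : a ∈ V := mem_centralizer_singleton_iff.2 hax.eq
    have hbV : b ∈ V := mem_centralizer_singleton_iff.2 hbx.eq
    have hinv : x⁻¹ = x := inv_eq_of_mul_eq_one_right (hsq x hxV)
    by_cases hba : b = a
    · exact Or.inl hba
    · right
      have h := IsKleinFour.eq_mul_of_ne_all (G := V) (x := ⟨x, hxV⟩) (y := ⟨a, haV⟩) (z := ⟨b, hbV⟩)
        (fun e => hx1 (congrArg Subtype.val e))
        (fun e => by rw [show a = 1 from congrArg Subtype.val e, orderOf_one] at ha; omega)
        (fun e => hane (congrArg Subtype.val e).symm)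
        (fun e => by rw [show b = 1 from congrArg Subtype.val e, orderOf_one] at hb; omega)
        (fun e => hbne (congrArg Subtype.val e)) (fun e => hba (congrArg Subtype.val e))
      exact congrArg Subtype.val h
  have cfg : H70.SCK.Config V := by
    refine ⟨hV, fun v hv => by rw [pow_two]; exact hsq v hv, fun v hv hv1 => ?_, fun t ht w hw hw1 => ?_, hnorm⟩
    · obtain ⟨g, hg⟩ := isConj_iff.1 (hone v (orderOf_eq_prime (by rw [pow_two]; exact hsq v hv) hv1))
      have hle : V ≤ centralizer ({v} : Set G) := fun w hw => mem_centralizer_singleton_iff.2 (hcom w hw v hv)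
      refine (Subgroup.eq_of_le_of_card_ge hle ?_).symm
      rw [hV, ← hg]
      refine le_trans (le_of_eq ?_) hV.le
      refine Nat.card_congr ((MulAut.conj g⁻¹).toEquiv.subtypeEquiv fun c => ?_)
      simp only [hVdef, mem_centralizer_singleton_iff, MulEquiv.toEquiv_eq_coe, EquivLike.coe_coe,
        MulAut.conj_apply, inv_inv]
      constructor
      · intro h
        calc g⁻¹ * c * g * x = g⁻¹ * (c * (g * x * g⁻¹)) * g := by group
          _ = x * (g⁻¹ * c * g) := by rw [h]; group
      · intro h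
        calc c * (g * x * g⁻¹) = g * (g⁻¹ * c * g * x) * g⁻¹ := by group
          _ = g * x * g⁻¹ * c := by rw [h]; group
    · exact (hone w (orderOf_eq_prime (by rw [pow_two]; exact hsq w hw) hw1)).symm.trans (hone t ht)
  rcases H70.SCK.card_eq cfg with h12 | h60
  · exfalso
    have htop : normalizer (V : Set G) = ⊤ :=
      Subgroup.eq_top_of_card_eq _ (by rw [hnorm, h12])
    haveI : V.Normal := normalizer_eq_top_iff.1 htop
    rcases (inferInstance : V.Normal).eq_bot_or_eq_top with h | h
    · rw [h, card_bot] at hV; omega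
    · rw [h, card_top] at hV; omega
  · exact Cfsg.Agent.S0494.result h60

omit [IsSimpleGroup G] in
theorem four_dvd_of_self {y : G} (hy : orderOf y = 4) (P : Sylow 2 G) (hyP : y ∈ (P : Subgroup G)) :
    4 ∣ Nat.card (P : Subgroup G) := hy ▸ (orderOf_mk y hyP).symm ▸ orderOf_dvd_natCard (⟨y, hyP⟩ : (P : Subgroup G))

/-- An element of order four which generates its centraliser forces dihedral Sylow subgroups of
order eight. -/
theorem dihedral_eight (hna : ¬ IsMulCommutative G) {y : G} (hy : orderOf y = 4)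
    (hC : Nat.card (centralizer ({y} : Set G)) = 4) :
    ∃ P : Sylow 2 G, H68.Dih (P : Subgroup G) y ∧ Nonempty ((P : Subgroup G) ≃* DihedralGroup 4) := by
  classical
  haveI : Fact (Nat.Prime 2) := ⟨Nat.prime_two⟩
  obtain ⟨P, hyP'⟩ := (IsPGroup.of_card (n := 2) (p := 2) (by rw [Nat.card_zpowers, hy]; rfl) :
    IsPGroup 2 (zpowers y)).exists_le_sylow
  have hyP : y ∈ (P : Subgroup G) := hyP' (mem_zpowers y)
  have hCz : centralizer ({y} : Set G) = zpowers y :=
    (Subgroup.eq_of_le_of_card_ge (zpowers_le.2 (mem_centralizer_singleton_iff.2 rfl))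
      (by rw [hC, Nat.card_zpowers, hy])).symm
  obtain ⟨j, hj⟩ := IsPGroup.iff_card.1 P.2
  have h4 := four_dvd_of_self hy P hyP
  have hne4 : Nat.card (P : Subgroup G) ≠ 4 := fun h => by
    have hPz : (P : Subgroup G) = zpowers y :=
      (Subgroup.eq_of_le_of_card_ge hyP' (by rw [h, Nat.card_zpowers, hy])).symm
    have hcyc : IsCyclic (P : Subgroup G) := by rw [hPz]; infer_instance
    have h2G : Even (Nat.card G) := even_iff_two_dvd.2
      ((show (2 : ℕ) ∣ orderOf y by rw [hy]; norm_num).trans (orderOf_dvd_natCard y))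
    obtain ⟨H, hH⟩ := H65.exists_index_two_of_cyclic_sylow h2G P hcyc
    exact index_ne_two hna H hH
  obtain ⟨n, rfl⟩ : ∃ n, j = n + 3 := by
    refine ⟨j - 3, ?_⟩
    rw [hj] at h4 hne4
    rcases j with _ | _ | _ | j <;> simp at h4 hne4 ⊢
  set y' : (P : Subgroup G) := ⟨y, hyP⟩ with hy'
  have hCP : ∀ q : (P : Subgroup G), q * y' = y' * q → (q : G) ∈ zpowers y := fun q hq =>
    hCz ▸ mem_centralizer_singleton_iff.2 (congrArg Subtype.val hq)
  -- the derived subgroup has index four
  have hidx : (commutator (P : Subgroup G)).index = 4 := by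
    set D := centralizer ({y'} : Set (P : Subgroup G)) with hD
    have hDle : Nat.card D ≤ 4 := by
      rw [← hy, ← Nat.card_zpowers y]
      refine Nat.card_le_card_of_injective (fun q => (⟨((q : (P : Subgroup G)) : G),
        hCP q (mem_centralizer_singleton_iff.1 q.2)⟩ : zpowers y)) fun a b h => ?_
      exact Subtype.ext (Subtype.ext (congrArg (fun t : zpowers y => (t : G)) h))
    have hinj : D.index ≤ Nat.card (commutator (P : Subgroup G)) := by
      rw [index_eq_card]
      refine Nat.card_le_card_of_injective (fun q => (⟨q.out * y' * q.out⁻¹ * y'⁻¹,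
        commutator_mem_commutator (mem_top _) (mem_top _)⟩ : commutator (P : Subgroup G))) fun a b h => ?_
      have h1 : a.out * y' * a.out⁻¹ = b.out * y' * b.out⁻¹ := mul_right_cancel (congrArg Subtype.val h)
      refine (QuotientGroup.out_eq' a).symm.trans ((QuotientGroup.eq.2 ?_).trans (QuotientGroup.out_eq' b))
      refine mem_centralizer_singleton_iff.2 ?_
      calc a.out⁻¹ * b.out * y' = a.out⁻¹ * (b.out * y' * b.out⁻¹) * b.out := by group
        _ = y' * (a.out⁻¹ * b.out) := by rw [← h1]; group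
    have e1 := D.card_mul_index
    have e2 := (commutator (P : Subgroup G)).card_mul_index
    have hge : 4 ≤ (commutator (P : Subgroup G)).index := by
      by_contra hlt
      push Not at hlt
      have hle : (commutator (P : Subgroup G)).index ≤ 2 := by
        by_contra h3
        have h3' : (commutator (P : Subgroup G)).index = 3 := by omega
        have h := index_dvd_card (commutator (P : Subgroup G))
        rw [h3', hj] at h
        exact absurd (Nat.prime_three.dvd_of_dvd_pow h) (by norm_num)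
      have hcomm := H31.commutative_of_commutator_index_le_two P.2 hle
      have htop : Nat.card D = Nat.card (P : Subgroup G) := by
        rw [show D = ⊤ from eq_top_iff.2 fun q _ => mem_centralizer_singleton_iff.2 (hcomm q y'),
          card_top]
      rw [hj] at htop
      have : 8 ≤ 2 ^ (n + 3) := Nat.pow_le_pow_right two_pos (by omega : 3 ≤ n + 3)
      omega
    refine le_antisymm ?_ hge
    have hpos : 0 < D.index := Nat.pos_of_ne_zero index_ne_zero_of_finite
    nlinarith
  rcases H31.classify_index_four hj hidx with ⟨k, ⟨e⟩⟩ | ⟨k, hk, a, b, ha, hb, hab⟩ | ⟨k, ⟨e⟩⟩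
  · -- dihedral
    obtain ⟨c, hc, hcn⟩ := H68.exists_dih P.2
      (show 2 ≤ 2 ^ (k + 2) from le_trans (by norm_num) (Nat.pow_le_pow_right two_pos (by omega : 2 ≤ k + 2))) e
    have hyc : y ∈ zpowers c := by
      by_contra h
      have := orderOf_dvd_of_pow_eq_one (show y ^ 2 = 1 by rw [pow_two]; exact hc.invol y hyP h)
      rw [hy] at this
      norm_num at this
    have hcy : zpowers c = zpowers y := by
      refine (Subgroup.eq_of_le_of_card_ge (zpowers_le.2 hyc) ?_).symm
      rw [Nat.card_zpowers y, hy, ← hC]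
      refine card_le_of_le (zpowers_le.2 (mem_centralizer_singleton_iff.2 ?_))
      obtain ⟨i, hi⟩ := mem_zpowers_iff.1 hyc
      rw [← hi, ← zpow_one_add, ← zpow_add_one, add_comm]
    have hord : orderOf c = 4 := by rw [← Nat.card_zpowers, hcy, Nat.card_zpowers, hy]
    refine ⟨P, ⟨hyP, ⟨2, one_le_two, by rw [hy]; rfl⟩, ?_, ?_, ?_, ?_⟩, ⟨?_⟩⟩
    · exact fun x hx hxA => hc.invol x hx (hcy.symm ▸ hxA)
    · exact fun x hx w hw hxA hwA => hcy ▸ hc.idx x hx w hw (hcy.symm ▸ hxA) (hcy.symm ▸ hwA)
    · obtain ⟨w, hw, hwA⟩ := hc.exists_out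
      exact ⟨w, hw, hcy ▸ hwA⟩
    · rw [hc.card_eq, hord, hy]
    · exact e.trans (by rw [show 2 ^ (k + 2) = 4 by omega])
  · -- semidihedral
    exfalso
    set r : ℕ := 2 ^ (k + 2) - 1 with hr
    have hr1 : r + 1 = 2 ^ (k + 2) := by rw [hr]; exact Nat.sub_add_cancel Nat.one_le_two_pow
    have hconj : ∀ i : ℤ, b * a ^ i * b⁻¹ = a ^ ((r : ℤ) * i) := fun i => by
      rw [← conj_zpow, hab, ← zpow_natCast, ← zpow_mul]
    have hbb : b * b = 1 := by
      have := pow_orderOf_eq_one b
      rwa [hb, pow_two] at this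
    have hbinv : b⁻¹ = b := inv_eq_of_mul_eq_one_right hbb
    have hba : ∀ i : ℤ, b * a ^ i = a ^ ((r : ℤ) * i) * b := fun i =>
      mul_inv_eq_iff_eq_mul.1 (hconj i)
    have hbA : b ∉ zpowers a := fun hmem => by
      obtain ⟨i, hi⟩ := mem_zpowers_iff.1 hmem
      have h1 : b * a * b⁻¹ = a := by
        rw [← hi]
        group
      rw [hab] at h1
      have h2 : orderOf a ∣ r - 1 := by
        apply orderOf_dvd_of_pow_eq_one
        have h3 : a ^ (r - 1) * a = a := by
          rw [← pow_succ, show r - 1 + 1 = r by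
            have : 4 ≤ 2 ^ (k + 2) := le_trans (by norm_num) (Nat.pow_le_pow_right two_pos (by omega : 2 ≤ k + 2))
            omega]
          exact h1
        exact mul_eq_right.1 h3
      rw [ha] at h2
      have h4' : 4 ≤ 2 ^ (k + 2) := le_trans (by norm_num) (Nat.pow_le_pow_right two_pos (by omega : 2 ≤ k + 2))
      have h5 : 2 ^ (k + 3) = 2 * 2 ^ (k + 2) := by ring
      have := Nat.le_of_dvd (by omega) h2
      omega
    have hA2 : (zpowers a).index = 2 := by
      have h := (zpowers a).card_mul_index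
      rw [Nat.card_zpowers, ha, hk, pow_succ (2 : ℕ) (k + 3)] at h
      exact Nat.eq_of_mul_eq_mul_left (by positivity) h
    have hdec : ∀ q : (P : Subgroup G), ∃ i : ℤ, q = a ^ i ∨ q = a ^ i * b := by
      intro q
      by_cases hq : q ∈ zpowers a
      · obtain ⟨i, hi⟩ := mem_zpowers_iff.1 hq
        exact ⟨i, Or.inl hi.symm⟩
      · have h1 : q * b ∈ zpowers a := (mul_mem_iff_of_index_two hA2).2 (iff_of_false hq hbA)
        obtain ⟨i, hi⟩ := mem_zpowers_iff.1 h1
        exact ⟨i, Or.inr (by rw [hi, mul_assoc, hbb, mul_one])⟩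
    have hN : (2 : ℤ) ^ (k + 3) = (orderOf a : ℤ) := by rw [ha]; push_cast; rfl
    let M : Subgroup (P : Subgroup G) :=
      { carrier := {q | ∃ i : ℤ, q = a ^ (2 * i) ∨ q = a ^ (2 * i) * b}
        one_mem' := ⟨0, Or.inl (by simp)⟩
        mul_mem' := by
          rintro p q ⟨i, hp⟩ ⟨l, hq⟩
          rcases hp with rfl | rfl <;> rcases hq with rfl | rfl
          · exact ⟨i + l, Or.inl (by rw [mul_add, zpow_add])⟩
          · exact ⟨i + l, Or.inr (by rw [mul_add, zpow_add, mul_assoc])⟩
          · refine ⟨i + r * l, Or.inr ?_⟩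
            rw [mul_assoc, hba, ← mul_assoc, ← zpow_add]
            ring_nf
          · refine ⟨i + r * l, Or.inl ?_⟩
            rw [mul_assoc, ← mul_assoc b, hba, mul_assoc _ b b, hbb, mul_one, ← zpow_add]
            ring_nf
        inv_mem' := by
          rintro p ⟨i, hp⟩
          rcases hp with rfl | rfl
          · exact ⟨-i, Or.inl (by rw [← zpow_neg, mul_neg])⟩
          · refine ⟨-(r * i), Or.inr ?_⟩
            rw [mul_inv_rev, hbinv, ← zpow_neg, hba]
            ring_nf }
    have hMmem : ∀ q, q ∈ M ↔ ∃ i : ℤ, q = a ^ (2 * i) ∨ q = a ^ (2 * i) * b := fun q => Iff.rfl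
    have heven : ∀ i : ℤ, a ^ (2 * i) = 1 → ∃ l, i = (2 : ℤ) ^ (k + 2) * l := fun i hi => by
      obtain ⟨l, hl⟩ := orderOf_dvd_iff_zpow_eq_one.2 hi
      rw [← hN, pow_succ] at hl
      exact ⟨l, by linarith⟩
    -- the square of an element outside `zpowers a`
    have hsqb : ∀ i : ℤ, a ^ i * b * (a ^ i * b) = a ^ (i * (2 : ℤ) ^ (k + 2)) := fun i => by
      rw [mul_assoc, ← mul_assoc b, hba, mul_assoc _ b b, hbb, mul_one, ← zpow_add]
      congr 1
      have : ((r : ℤ) + 1) = (2 : ℤ) ^ (k + 2) := by exact_mod_cast hr1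
      linear_combination i * this
    have hinvM : ∀ q : (P : Subgroup G), q * q = 1 → q ∈ M := by
      intro q hq
      obtain ⟨i, rfl | rfl⟩ := hdec q
      · rw [← zpow_add, ← two_mul] at hq
        obtain ⟨l, hl⟩ := heven i hq
        exact (hMmem _).2 ⟨2 ^ (k + 1) * l, Or.inl (by rw [hl]; ring_nf)⟩
      · rw [hsqb] at hq
        obtain ⟨l, hl⟩ := orderOf_dvd_iff_zpow_eq_one.2 hq
        rw [← hN, pow_succ] at hl
        have hi : i = 2 * l := mul_right_cancel₀ (pow_ne_zero (k + 2) two_ne_zero) (by linear_combination hl)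
        exact (hMmem _).2 ⟨l, Or.inr (by rw [hi])⟩
    have hMidx : M.index = 2 := by
      refine index_eq_two_iff.2 ⟨a, fun q => ?_⟩
      have hnot : ∀ i : ℤ, (a ^ (2 * i + 1) ∉ M) ∧ (a ^ (2 * i + 1) * b ∉ M) := by
        intro i
        have hodd : ∀ l : ℤ, a ^ (2 * i + 1) ≠ a ^ (2 * l) := fun l hl => by
          rw [zpow_eq_zpow_iff_modEq, Int.modEq_iff_dvd, ← hN, pow_succ] at hl
          obtain ⟨t, ht⟩ := hl
          have : (2 : ℤ) ∣ 2 * l - (2 * i + 1) := ⟨2 ^ (k + 2) * t, by linarith⟩
          omega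
        refine ⟨?_, ?_⟩ <;> rintro ⟨l, hl | hl⟩
        · exact hodd l hl
        · exact hbA (by
            rw [show b = (a ^ (2 * l))⁻¹ * a ^ (2 * i + 1) by rw [hl]; group]
            exact mul_mem (inv_mem (zpow_mem (mem_zpowers a) _)) (zpow_mem (mem_zpowers a) _))
        · exact hbA (by
            rw [show b = (a ^ (2 * i + 1))⁻¹ * a ^ (2 * l) by rw [← hl]; group]
            exact mul_mem (inv_mem (zpow_mem (mem_zpowers a) _)) (zpow_mem (mem_zpowers a) _))
        · exact hodd l (mul_right_cancel hl)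
      obtain ⟨i, rfl | rfl⟩ := hdec q
      · rcases Int.even_or_odd' i with ⟨l, rfl | rfl⟩
        · refine Or.inr ⟨(hMmem _).2 ⟨l, Or.inl rfl⟩, ?_⟩
          rw [← zpow_add_one]; exact (hnot l).1
        · refine Or.inl ⟨(hMmem _).2 ⟨l + 1, Or.inl ?_⟩, (hnot l).1⟩
          rw [← zpow_add_one]; ring_nf
      · have hshift : a ^ i * b * a = a ^ (i + r) * b := by
          have := hba 1
          rw [zpow_one, mul_one] at this
          rw [mul_assoc, this, ← mul_assoc, ← zpow_add]
        have hrodd : ∃ t : ℤ, (r : ℤ) = 2 * t + 1 := ⟨2 ^ (k + 1) - 1, by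
          have : ((r : ℤ) + 1) = (2 : ℤ) ^ (k + 2) := by exact_mod_cast hr1
          rw [pow_succ] at this; linarith⟩
        obtain ⟨t, ht⟩ := hrodd
        rcases Int.even_or_odd' i with ⟨l, rfl | rfl⟩
        · refine Or.inr ⟨(hMmem _).2 ⟨l, Or.inr rfl⟩, ?_⟩
          rw [hshift, show 2 * l + (r : ℤ) = 2 * (l + t) + 1 by linarith]; exact (hnot _).2
        · refine Or.inl ⟨(hMmem _).2 ⟨l + t + 1, Or.inr ?_⟩, (hnot l).2⟩
          rw [hshift, ht]; ring_nf
    set M' := M.map (P : Subgroup G).subtype with hM'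
    have hrel : M'.relIndex (P : Subgroup G) = 2 := by
      rw [hM', relIndex, subgroupOf, comap_map_eq_self_of_injective (subtype_injective _), hMidx]
    have hodd' : ∀ g : G, g * y * g⁻¹ ∈ (P : Subgroup G) → g * y * g⁻¹ ∉ M' := by
      intro g _ hgM
      obtain ⟨q, hqM, hq⟩ := hgM
      replace hq : (q : G) = g * y * g⁻¹ := hq
      have hq4 : orderOf q = 4 := by
        rw [← Subgroup.orderOf_coe, hq, ← MulAut.conj_apply, MulEquiv.orderOf_eq, hy]
      obtain ⟨i, hqi | hqi⟩ := (hMmem q).1 hqM
      · -- commutes with `a`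
        have hle : zpowers (a : G) ≤ centralizer ({(q : G)} : Set G) := zpowers_le.2
          (mem_centralizer_singleton_iff.2 (by
            rw [hqi, Subgroup.coe_zpow, ← zpow_one_add, ← zpow_add_one, add_comm]))
        have h1 := card_le_of_le hle
        have h2 : Nat.card (centralizer ({(q : G)} : Set G)) = 4 := by
          rw [← hC]
          refine Nat.card_congr ((MulAut.conj g⁻¹).toEquiv.subtypeEquiv fun c => ?_)
          simp only [mem_centralizer_singleton_iff, MulEquiv.toEquiv_eq_coe, EquivLike.coe_coe,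
            MulAut.conj_apply, inv_inv, hq]
          constructor
          · intro h
            calc g⁻¹ * c * g * y = g⁻¹ * (c * (g * y * g⁻¹)) * g := by group
              _ = y * (g⁻¹ * c * g) := by rw [h]; group
          · intro h
            calc c * (g * y * g⁻¹) = g * (g⁻¹ * c * g * y) * g⁻¹ := by group
              _ = g * y * g⁻¹ * c := by rw [h]; group
        rw [Nat.card_zpowers, Subgroup.orderOf_coe, ha, h2] at h1
        have : 8 ≤ 2 ^ (k + 3) := Nat.pow_le_pow_right two_pos (by omega : 3 ≤ k + 3)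
        omega
      · have h1 : q ^ 2 = 1 := by
          rw [pow_two, hqi, hsqb, ← orderOf_dvd_iff_zpow_eq_one, ← hN]
          exact ⟨i, by ring⟩
        have := orderOf_dvd_of_pow_eq_one h1
        rw [hq4] at this
        norm_num at this
    have heven' : ∀ g : G, ∀ l : ℕ, g * y ^ (2 * l) * g⁻¹ ∈ (P : Subgroup G) →
        g * y ^ (2 * l) * g⁻¹ ∈ M' := by
      intro g l hgP
      refine ⟨⟨_, hgP⟩, hinvM _ (Subtype.ext ?_), rfl⟩
      show g * y ^ (2 * l) * g⁻¹ * (g * y ^ (2 * l) * g⁻¹) = 1
      calc g * y ^ (2 * l) * g⁻¹ * (g * y ^ (2 * l) * g⁻¹) = g * (y ^ 4) ^ l * g⁻¹ := by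
            rw [← pow_mul, show 4 * l = 2 * l + 2 * l by ring, pow_add]; group
        _ = 1 := by rw [← hy, pow_orderOf_eq_one, one_pow]; group
    obtain ⟨K, -, hK, -⟩ :=
      H67.exists_index_two_of_fusion P M' (map_subtype_le _) hrel y hyP hodd' heven'
    exact index_ne_two hna K hK
  · -- generalised quaternion
    exfalso
    haveI : NeZero (2 ^ (k + 1)) := ⟨by positivity⟩
    have huniq : ∀ u v : QuaternionGroup (2 ^ (k + 1)), u ^ 2 = 1 → v ^ 2 = 1 → u ≠ 1 → v ≠ 1 → u = v := by
      have ha : ∀ u : QuaternionGroup (2 ^ (k + 1)), u ^ 2 = 1 → u ∈ zpowers (QuaternionGroup.a 1) := by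
        rintro (i | i) hu
        · exact ⟨(i.val : ℤ), by simp only [zpow_natCast]; rw [QuaternionGroup.a_one_pow, ZMod.natCast_val, ZMod.cast_id]⟩
        · have h1 := orderOf_dvd_of_pow_eq_one hu
          rw [QuaternionGroup.orderOf_xa] at h1
          norm_num at h1
      intro u v hu hv hu1 hv1
      exact H65.two_unique (C := zpowers (QuaternionGroup.a 1)) inferInstance
        (orderOf_eq_prime hu hu1) (orderOf_eq_prime hv hv1) (ha u hu) (ha v hv)
    have hncyc : ¬ IsCyclic G := fun h => hna (letI := IsCyclic.commGroup (α := G); ⟨⟨mul_comm⟩⟩)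
    obtain ⟨E, hE⟩ := Cfsg.Agent.S0204.result hncyc
    obtain ⟨Q, hQ⟩ := (IsPGroup.of_card (n := 2) (p := 2) (by rw [hE.card_four]; rfl) :
      IsPGroup 2 E).exists_le_sylow
    let f : E →* QuaternionGroup (2 ^ (k + 1)) :=
      e.toMonoidHom.comp ((Q.equiv P).toMonoidHom.comp (Subgroup.inclusion hQ))
    have hf : Function.Injective f :=
      e.injective.comp ((Q.equiv P).injective.comp (Subgroup.inclusion_injective hQ))
    haveI := hE
    haveI : Fintype E := Fintype.ofFinite _
    obtain ⟨u, v, hu1, hv1, huv⟩ : ∃ u v : E, u ≠ 1 ∧ v ≠ 1 ∧ u ≠ v := by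
      obtain ⟨u, hu⟩ := Fintype.exists_ne_of_one_lt_card (α := E)
        (by rw [Fintype.card_eq_nat_card, hE.card_four]; norm_num) 1
      obtain ⟨v, hv1, hv⟩ := Fintype.two_lt_card_iff.1
        (show 2 < Fintype.card E by rw [Fintype.card_eq_nat_card, hE.card_four]; norm_num)
        |> fun ⟨p, q, s, hpq, hps, hqs⟩ => (show ∃ v : E, v ≠ 1 ∧ v ≠ u by
          by_cases h1 : p = 1 ∨ p = u
          · by_cases h2 : q = 1 ∨ q = u
            · exact ⟨s, fun e => by subst e; rcases h1 with rfl | rfl <;> rcases h2 with rfl | rfl <;> simp_all,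
                fun e => by subst e; rcases h1 with rfl | rfl <;> rcases h2 with rfl | rfl <;> simp_all⟩
            · push Not at h2; exact ⟨q, h2⟩
          · push Not at h1; exact ⟨p, h1⟩)
      exact ⟨u, v, hu, hv1, fun e => hv e.symm⟩
    have hsq : ∀ w : E, (f w) ^ 2 = 1 := fun w => by
      rw [← map_pow, pow_two, IsKleinFour.mul_self, map_one]
    exact huv (hf (huniq _ _ (hsq u) (hsq v) ((map_ne_one_iff f hf).2 hu1) ((map_ne_one_iff f hf).2 hv1)))

end H6.SmallCent
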