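import Cfsg.Agent.H65.DihedralOrder
import Cfsg.Agent.H66.Inverted
import Cfsg.Agent.H68.DihedralFusion
import Cfsg.Agent.H70.ThreeInvol

/-!
A simple group with dihedral Sylow 2-subgroups of order eight in which an element of order four
generates its centraliser: the centraliser of the involution.
-/

set_option autoImplicit false
set_option linter.style.haveILetI false
set_option linter.unusedSectionVars false

namespace H6.SmallCent

open Subgroup Cfsg H68
open scoped Classical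

universe u

/-- The configuration. -/
structure Conf (G : Type u) [Group G] [Fintype G] where
  y : G
  P : Sylow 2 G
  dih : Dih (P : Subgroup G) y
  eP : (P : Subgroup G) ≃* DihedralGroup 4
  hy : orderOf y = 4
  hC : Nat.card (centralizer ({y} : Set G)) = 4
  simple : IsSimpleGroup G
  hna : ¬ IsMulCommutative G

namespace Conf

variable {G : Type u} [Group G] [Fintype G] (h : Conf G)

/-- The central involution. -/
noncomputable def J : G := dz h.y

/-- Its centraliser. -/
noncomputable def CJ : Subgroup G := centralizer ({h.J} : Set G)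

/-- The odd part of the centraliser. -/
noncomputable def U : Subgroup G := (pResidual 2 ↥h.CJ).map h.CJ.subtype

/-- The part of `U` centralised by `t`. -/
noncomputable def fixU (t : G) : Subgroup G := h.U ⊓ centralizer ({t} : Set G)

theorem hk : orderOf h.y = 2 ^ (0 + 2) := by rw [h.hy]; rfl

theorem J_eq : h.J = h.y ^ 2 := by rw [J, dz, h.hy]

theorem J_two : orderOf h.J = 2 := h.dih.dz_two

theorem J_inv : h.J⁻¹ = h.J := H65.inv_of_two h.J_two

theorem J_ne : h.J ≠ 1 := fun e => by have := h.J_two; rw [e, orderOf_one] at this; omega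

theorem y_ne : h.y ≠ 1 := fun e => by have := h.hy; rw [e, orderOf_one] at this; omega

theorem cent_y : centralizer ({h.y} : Set G) = zpowers h.y :=
  (Subgroup.eq_of_le_of_card_ge (zpowers_le.2 (mem_centralizer_singleton_iff.2 rfl))
    (by rw [h.hC, Nat.card_zpowers, h.hy])).symm

theorem hasComplement : HasNormalPComplement 2 ↥h.CJ :=
  H65.DB_complement h.P h.dih h.eP h.dih.dz_mem_zpowers h.J_ne

theorem hasComplement_y : HasNormalPComplement 2 ↥(centralizer ({h.y} : Set G)) :=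
  H65.DB_complement h.P h.dih h.eP (mem_zpowers _) h.y_ne

theorem P_le : (h.P : Subgroup G) ≤ h.CJ := fun _ hw =>
  mem_centralizer_singleton_iff.2 (h.dih.dz_comm hw)

theorem mem_U {g : G} : g ∈ h.U ↔ Commute g h.J ∧ Odd (orderOf g) := by
  constructor
  · rintro ⟨z, hz, rfl⟩
    refine ⟨mem_centralizer_singleton_iff.1 z.2, ?_⟩
    show Odd (orderOf (z : G))
    rw [Subgroup.orderOf_coe]
    exact (H65.DF_odd_iff h.hasComplement z).1 hz
  · rintro ⟨h1, h2⟩
    refine ⟨⟨g, mem_centralizer_singleton_iff.2 h1.eq⟩, (H65.DF_odd_iff h.hasComplement _).2 ?_, rfl⟩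
    rw [← Subgroup.orderOf_coe]; exact h2

theorem U_le : h.U ≤ h.CJ := map_subtype_le _

theorem U_odd : Odd (Nat.card h.U) := by
  rw [U, card_map_of_injective (subtype_injective _)]
  haveI : Fact (Nat.Prime 2) := ⟨Nat.prime_two⟩
  exact Nat.odd_iff.2 (Nat.two_dvd_ne_zero.1 (H5.hasNormalPComplement_iff_not_dvd.1 h.hasComplement))

theorem card_CJ : Nat.card h.CJ = 8 * Nat.card h.U := by
  haveI : Fact (Nat.Prime 2) := ⟨Nat.prime_two⟩
  have h1 := (H5.pResidual_isComplement' h.hasComplement (h.P.subtype h.P_le)).card_mul_card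
  rw [show ((h.P.subtype h.P_le : Sylow 2 h.CJ) : Subgroup h.CJ) = (h.P : Subgroup G).subgroupOf h.CJ from rfl,
    Nat.card_congr (subgroupOfEquivOfLe h.P_le).toEquiv, h.dih.card_eq, h.hy] at h1
  rw [U, card_map_of_injective (subtype_injective _), ← h1, mul_comm]

theorem U_normal {c v : G} (hc : c ∈ h.CJ) (hv : v ∈ h.U) : c * v * c⁻¹ ∈ h.U := by
  obtain ⟨z, hz, rfl⟩ := hv
  exact ⟨⟨c, hc⟩ * z * ⟨c, hc⟩⁻¹, (pResidual_normal 2 ↥h.CJ).conj_mem z hz _, rfl⟩
where
  pResidual_normal (p : ℕ) (K : Type u) [Group K] [Finite K] : (pResidual p K).Normal := inferInstance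

include h in
theorem index_ne_two (H : Subgroup G) : H.index ≠ 2 := by
  haveI := h.simple
  exact H70.index_ne_two_of_simple h.hna H

theorem isConj_J {t : G} (ht : orderOf t = 2) : IsConj h.J t :=
  (isConj_dz h.P h.dih h.index_ne_two ht).symm

theorem y_mem : h.y ∈ h.CJ := h.P_le h.dih.mem

theorem J_mem_P : h.J ∈ (h.P : Subgroup G) := h.dih.dz_mem

/-- The element of order four inverts `U`. -/
theorem y_inv {v : G} (hv : v ∈ h.U) : h.y * v * h.y⁻¹ = v⁻¹ := by
  set f : h.U → h.U := fun u => ⟨h.y * (u : G) * h.y⁻¹ * (u : G)⁻¹,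
    mul_mem (h.U_normal h.y_mem u.2) (inv_mem u.2)⟩ with hf
  have hinj : Function.Injective f := by
    intro a b hab
    have e : h.y * (a : G) * h.y⁻¹ * (a : G)⁻¹ = h.y * (b : G) * h.y⁻¹ * (b : G)⁻¹ :=
      congrArg Subtype.val hab
    have h1 : h.y * ((b : G)⁻¹ * a) = (b : G)⁻¹ * a * h.y := by
      calc h.y * ((b : G)⁻¹ * a) = (h.y * (b : G) * h.y⁻¹)⁻¹ * (h.y * a * h.y⁻¹ * (a : G)⁻¹) * a * h.y := by group
        _ = (b : G)⁻¹ * a * h.y := by rw [e]; group
    have h2 : (b : G)⁻¹ * a ∈ zpowers h.y := h.cent_y ▸ mem_centralizer_singleton_iff.2 h1.symm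
    have h3 : (b : G)⁻¹ * a ∈ h.U := mul_mem (inv_mem b.2) a.2
    have h4 : (b : G)⁻¹ * a = 1 := by
      rw [← orderOf_eq_one_iff]
      have hd : orderOf ((b : G)⁻¹ * a) ∣ 2 ^ 2 := by
        rw [show (2 : ℕ) ^ 2 = Nat.card (zpowers h.y) by rw [Nat.card_zpowers, h.hy]; rfl]
        exact Subgroup.orderOf_dvd_natCard _ h2
      exact Nat.eq_one_of_dvd_coprimes ((Nat.coprime_two_right.2 (h.mem_U.1 h3).2).pow_right 2) dvd_rfl hd
    exact Subtype.ext (inv_mul_eq_one.1 h4).symm
  obtain ⟨u, hu⟩ := (Finite.injective_iff_surjective.1 hinj) ⟨v, hv⟩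
  replace hu : h.y * (u : G) * h.y⁻¹ * (u : G)⁻¹ = v := congrArg Subtype.val hu
  have hyy : h.y * (h.y * (u : G) * h.y⁻¹) * h.y⁻¹ = u := by
    have := (h.mem_U.1 u.2).1
    calc h.y * (h.y * (u : G) * h.y⁻¹) * h.y⁻¹ = h.J * (u : G) * h.J⁻¹ := by rw [J_eq, pow_two]; group
      _ = u := by rw [← this.eq, mul_inv_cancel_right]
  rw [← hu]
  calc h.y * (h.y * (u : G) * h.y⁻¹ * (u : G)⁻¹) * h.y⁻¹
      = h.y * (h.y * (u : G) * h.y⁻¹) * h.y⁻¹ * (h.y * (u : G) * h.y⁻¹)⁻¹ := by group
    _ = (u : G) * (h.y * (u : G) * h.y⁻¹)⁻¹ := by rw [hyy]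
    _ = _ := by group

theorem U_comm {a b : G} (ha : a ∈ h.U) (hb : b ∈ h.U) : a * b = b * a := by
  have e : h.y * (a * b) * h.y⁻¹ = (h.y * a * h.y⁻¹) * (h.y * b * h.y⁻¹) := by group
  rw [h.y_inv (mul_mem ha hb), h.y_inv ha, h.y_inv hb, mul_inv_rev] at e
  simpa using (congrArg (·⁻¹) e)

/-! ### A reflection -/

variable {t : G} (ht : t ∈ (h.P : Subgroup G)) (htA : t ∉ zpowers h.y)
include ht htA

theorem t_two : orderOf t = 2 :=
  orderOf_eq_prime (by rw [pow_two]; exact h.dih.invol t ht htA) fun e => htA (e ▸ one_mem _)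

theorem yt_mem : h.y * t ∈ (h.P : Subgroup G) := mul_mem h.dih.mem ht

theorem yt_notin : h.y * t ∉ zpowers h.y := fun e =>
  htA ((Subgroup.mul_mem_cancel_left _ (mem_zpowers h.y)).1 e)

theorem t_J : Commute t h.J := h.dih.dz_comm ht

theorem mem_fix {v : G} : v ∈ h.fixU t ↔ v ∈ h.U ∧ Commute v t := by
  rw [fixU, mem_inf, mem_centralizer_singleton_iff]
  rfl

theorem yt_inv {v : G} (hv : v ∈ h.fixU t) : h.y * t * v * (h.y * t)⁻¹ = v⁻¹ := by
  obtain ⟨hU, hc⟩ := (h.mem_fix ht htA).1 hv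
  calc h.y * t * v * (h.y * t)⁻¹ = h.y * (t * v * t⁻¹) * h.y⁻¹ := by group
    _ = v⁻¹ := by rw [← hc.eq, mul_inv_cancel_right, h.y_inv hU]

theorem card_U : Nat.card h.U = Nat.card (h.fixU t) * Nat.card (h.fixU (h.y * t)) := by
  have htC : t ∈ h.CJ := h.P_le ht
  rw [H66.card_inverted_factor (X := h.U) (fun x hx => (h.mem_U.1 hx).2) (h.dih.invol t ht htA)
    (fun x hx => h.U_normal htC hx)]
  congr 1
  refine Nat.card_congr (Equiv.subtypeEquivRight fun v => ?_)
  show (v ∈ h.U ∧ t * v * t⁻¹ = v⁻¹) ↔ _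
  rw [h.mem_fix (h.yt_mem ht htA) (h.yt_notin ht htA)]
  refine and_congr_right fun hv => ?_
  have hy := h.y_inv hv
  constructor
  · intro e
    refine Commute.symm (show Commute (h.y * t) v from ?_)
    refine mul_inv_eq_iff_eq_mul.1 ?_
    calc h.y * t * v * (h.y * t)⁻¹ = h.y * (t * v * t⁻¹) * h.y⁻¹ := by group
      _ = v := by rw [e, ← conj_inv, hy, inv_inv]
  · intro e
    have e' : h.y * t * v * (h.y * t)⁻¹ = v := by rw [← e.eq, mul_inv_cancel_right]
    calc t * v * t⁻¹ = h.y⁻¹ * (h.y * t * v * (h.y * t)⁻¹) * h.y := by group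
      _ = h.y⁻¹ * v * h.y := by rw [e']
      _ = h.y⁻¹ * (h.y * v * h.y⁻¹)⁻¹ * h.y := by rw [hy, inv_inv]
      _ = v⁻¹ := by group

theorem fix_odd : Odd (Nat.card (h.fixU t)) :=
  h.U_odd.of_dvd_nat (card_dvd_of_le inf_le_left)

theorem card_cent : Nat.card (centralizer ({h.J, t} : Set G)) = 4 * Nat.card (h.fixU t) := by
  haveI : Fact (Nat.Prime 2) := ⟨Nat.prime_two⟩
  set H := centralizer ({h.J, t} : Set G) with hH
  have hmem : ∀ {g : G}, g ∈ H ↔ Commute g h.J ∧ Commute g t := by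
    intro g
    rw [hH, mem_centralizer_iff]
    simp only [Set.mem_insert_iff, Set.mem_singleton_iff, forall_eq_or_imp, forall_eq]
    exact and_congr ⟨fun e => e.symm, fun e => e.symm⟩ ⟨fun e => e.symm, fun e => e.symm⟩
  have hfix : h.fixU t ≤ H := fun g hg => hmem.2 ⟨(h.mem_U.1 ((h.mem_fix ht htA).1 hg).1).1,
    ((h.mem_fix ht htA).1 hg).2⟩
  have hHC : H ≤ h.CJ := fun g hg => mem_centralizer_singleton_iff.2 (hmem.1 hg).1.eq
  have heq : h.fixU t = h.U ⊓ H := le_antisymm (le_inf inf_le_left hfix) fun g hg =>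
    (h.mem_fix ht htA).2 ⟨hg.1, (hmem.1 hg.2).2⟩
  -- the four group
  set V := h.dih.four ht htA with hV
  have hVH : V ≤ H := fun g hg => by
    have hgP : g ∈ (h.P : Subgroup G) := h.dih.four_le ht htA hg
    refine hmem.2 ⟨h.dih.dz_comm hgP, ?_⟩
    rcases (h.dih.mem_four ht htA).1 hg with rfl | rfl | rfl | rfl
    · exact Commute.one_left _
    · exact (h.t_J ht htA).symm
    · exact Commute.refl _
    · exact (h.t_J ht htA).symm.mul_left (Commute.refl _)
  have h4 : 4 ∣ Nat.card H := (h.dih.isKleinFour_four ht htA).card_four ▸ card_dvd_of_le hVH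
  have h8 : ¬ 8 ∣ Nat.card H := by
    intro h8
    obtain ⟨R, hR⟩ := Sylow.exists_subgroup_card_pow_prime (G := H) 2 (n := 3) (by rw [show (2 : ℕ) ^ 3 = 8 from rfl]; simpa [Nat.card_eq_fintype_card] using h8)
    have hP8 : Nat.card (h.P : Subgroup G) = 8 := by rw [h.dih.card_eq, h.hy]
    have hRc : Nat.card (R.map H.subtype) = 8 := by
      rw [card_map_of_injective (subtype_injective _), hR]
      norm_num
    let T : Sylow 2 G := Sylow.ofCard (R.map H.subtype) (by
      rw [hRc, ← hP8, h.P.card_eq_multiplicity])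
    have hTH : (T : Subgroup G) ≤ H := by rw [Sylow.coe_ofCard]; exact map_subtype_le _
    obtain ⟨g, hg⟩ := MulAction.exists_smul_eq G T h.P
    have hgw : ∀ u : G, (∀ w ∈ (T : Subgroup G), w * u = u * w) → orderOf u = 2 →
        g * u * g⁻¹ = h.J := by
      intro u hcom hu
      have hu' : orderOf (g * u * g⁻¹) = 2 := by rw [← MulAut.conj_apply, MulEquiv.orderOf_eq, hu]
      have hall : ∀ w ∈ (h.P : Subgroup G), w * (g * u * g⁻¹) = g * u * g⁻¹ * w := by
        intro w hw
        rw [← hg, Sylow.coe_subgroup_smul, mem_pointwise_smul_iff_inv_smul_mem] at hw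
        have e := hcom _ hw
        simp only [MulAut.smul_def, MulAut.conj_inv_apply] at e
        calc w * (g * u * g⁻¹) = g * (g⁻¹ * w * g * u) * g⁻¹ := by group
          _ = g * (u * (g⁻¹ * w * g)) * g⁻¹ := by rw [e]
          _ = _ := by group
      have hin : g * u * g⁻¹ ∈ (h.P : Subgroup G) :=
        H65.mem_of_commuting h.P (a := 1) (by rw [hu', pow_one]) hall
      by_cases hA : g * u * g⁻¹ ∈ zpowers h.y
      · exact h.dih.dz_unique hu' hA
      · exfalso
        have e := h.dih.conj_zpow' hin hA 1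
        rw [zpow_one, ← hall h.y h.dih.mem, mul_inv_cancel_right, zpow_neg, zpow_one] at e
        have h4 := orderOf_dvd_of_pow_eq_one (show h.y ^ 2 = 1 by
          rw [pow_two]; nth_rewrite 1 [e]; exact inv_mul_cancel _)
        rw [h.hy] at h4
        norm_num at h4
    have e1 := hgw h.J (fun w hw => (hmem.1 (hTH hw)).1.eq) h.J_two
    have e2 := hgw t (fun w hw => (hmem.1 (hTH hw)).2.eq) (h.t_two ht htA)
    have : h.J = t := mul_left_cancel (mul_right_cancel (e1.trans e2.symm))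
    exact htA (this ▸ h.dih.dz_mem_zpowers)
  -- orders
  have hN : (pResidual 2 ↥h.CJ).index = 8 := by
    have h1 := (pResidual 2 ↥h.CJ).card_mul_index
    rw [h.card_CJ, U, card_map_of_injective (subtype_injective _)] at h1
    exact Nat.eq_of_mul_eq_mul_left Nat.card_pos (by rw [h1, mul_comm])
  have hrel : h.U.relIndex h.CJ = 8 := by
    rw [relIndex, U, subgroupOf, comap_map_eq_self_of_injective (subtype_injective _), hN]
  have hd : (h.fixU t).relIndex H ∣ 8 := by
    rw [heq, inf_relIndex_right]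
    refine dvd_trans ?_ (dvd_of_eq hrel)
    haveI : (h.U.subgroupOf h.CJ).Normal :=
      ⟨fun n hn g => mem_subgroupOf.2 (h.U_normal g.2 (mem_subgroupOf.1 hn))⟩
    have h1 := relIndex_dvd_index_of_normal (H := h.U.subgroupOf h.CJ) (K := H.subgroupOf h.CJ)
    rwa [relIndex_subgroupOf hHC] at h1
  have hc := ((h.fixU t).subgroupOf H).card_mul_index
  rw [Nat.card_congr (subgroupOfEquivOfLe hfix).toEquiv] at hc
  change Nat.card (h.fixU t) * (h.fixU t).relIndex H = Nat.card H at hc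
  obtain ⟨e, he, he'⟩ := (Nat.dvd_prime_pow Nat.prime_two).1 (show _ ∣ 2 ^ 3 from hd)
  rw [he'] at hc
  have hco : (Nat.card (h.fixU t)).Coprime 4 :=
    (Nat.coprime_two_right.2 (h.fix_odd ht htA)).pow_right 2
  have he2 : 2 ^ 2 ∣ 2 ^ e := hco.symm.dvd_of_dvd_mul_left (hc ▸ h4)
  rw [Nat.pow_dvd_pow_iff_le_right one_lt_two] at he2
  have he3 : e ≠ 3 := fun e3 => h8 (hc ▸ e3 ▸ Dvd.intro_left _ rfl)
  rw [← hc, show e = 2 by omega]
  ring

end Conf

end H6.SmallCent
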